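import Cfsg.Agent.H72.F4I.Iso.Basic
import Cfsg.Agent.H134.TD.Exc
import Cfsg.Agent.H528.TDRow.E78
import Cfsg.Agent.H488.TDRow.TE6
import Cfsg.Agent.H488.TDRow.E6

/-!
# Isolated numbers of the exceptional groups (helper72)

`g2_row`, `f4_row`, `td4_row`, `e6_row`, `te6_row`, `e7_row`, `e8_row`.
-/

set_option autoImplicit false
set_option linter.unusedSectionVars false

namespace Cfsg.Agent.H72.F4I

open Cfsg Cfsg.Lie Subgroup
open Cfsg.Agent.H129 Cfsg.Agent.H129.CycT Cfsg.Agent.H564.NearTwo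
open Cfsg.Agent.H378 Cfsg.Agent.H378.ExcAdj Cfsg.Agent.H378.CycTab Cfsg.Agent.H378.ExcNear
open Cfsg.Agent.H378.AdjTab Cfsg.Agent.H72.F4I.Iso
open Cfsg.Agent.H134.TD (TorAt tor_G2_3 tor_G2_6 tor_F4_8 torAt_of_exact)

universe u

section gen

variable {S : Type*} [Group S] [Finite S] {n : ℕ}

/-- **A cyclic subgroup with centralizers.** -/
theorem card_eq (h : IsoN S n) {T : Subgroup S} (hc : IsCyclic ↥T) {s : ℕ} (hs : s.Prime) (hsT : s ∣ Nat.card ↥T)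
    (hcent : ∀ y ∈ T, orderOf y = s → Subgroup.centralizer {y} ≤ T) (hsn : s ∣ n) : Nat.card ↥T = n := by
  apply Nat.dvd_antisymm
  · obtain ⟨t, ht⟩ := hc.exists_generator
    have h1 : orderOf (t : S) = Nat.card ↥T := by
      rw [Subgroup.orderOf_coe]
      exact orderOf_eq_card_of_forall_mem_zpowers ht
    exact h.dvd_of_elt ⟨_, h1⟩ hs hsn hsT
  · obtain ⟨x, hx⟩ := h.elt
    have hx0 : orderOf x ≠ 0 := (orderOf_pos x).ne'
    have ho : orderOf (x ^ (orderOf x / s)) = s := orderOf_pow_orderOf_div hx0 (by rw [hx]; exact hsn)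
    obtain ⟨g, -, hg⟩ := Cfsg.Agent.H129.CycT.centralizer_conj hc hs hsT hcent ho
    have h1 : g * x * g⁻¹ ∈ T := by
      rw [← hg, Subgroup.mem_centralizer_singleton_iff]
      exact (Commute.self_pow x _).eq
    have h2 : orderOf (g * x * g⁻¹) = orderOf x := by
      have := orderOf_injective (MulAut.conj g).toMonoidHom (MulAut.conj g).injective x
      simpa using this
    rw [← hx, ← h2, ← Subgroup.orderOf_mk _ h1]
    exact orderOf_dvd_natCard _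

theorem torAt_eq (h : IsoN S n) {N s : ℕ} (hT : TorAt S N s) (hs : s.Prime) (hsN : s ∣ N) (hsn : s ∣ n) : N = n := by
  obtain ⟨T, h1, rfl, h3⟩ := hT
  exact card_eq h h1 hs hsN h3 hsn

theorem exact_eq (h : IsoN S n) {N s : ℕ} (hT : CycExact S N) (hs : s.Prime) (hsN : s ∣ N) (hsn : s ∣ n) : N = n :=
  torAt_eq h (torAt_of_exact hT hs) hs hsN hsn

end gen

section

variable {F : Type u} [Field F] [Fintype F] {v n : ℕ}

/-- **`G₂(v)`** -/
theorem g2_row (hv : Fintype.card F = v) (h : IsoN ↥(chevG2.group F) n) : n = v ^ 2 + v + 1 ∨ n + v = v ^ 2 + 1 := by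
  obtain ⟨s, hs, hsn⟩ := h.exists_prime
  have hv' : Nat.card F = v := by rw [Nat.card_eq_fintype_card, hv]
  have hv2 : 2 ≤ v := by rw [← hv]; exact Fintype.one_lt_card
  have hle : v ≤ v ^ 2 := Nat.le_self_pow (by norm_num) _
  have hN3 : ((v ^ 2 + v + 1 : ℕ) : ℤ) = 1 + (v : ℤ) + (v : ℤ) ^ 2 := by push_cast; ring
  have hN6 : ((v ^ 2 - v + 1 : ℕ) : ℤ) = 1 - (v : ℤ) + (v : ℤ) ^ 2 := by push_cast [Nat.cast_sub hle]; ring
  rcases (near_G2 F hs (h.prime_dvd_card hsn)).resolve_left (h.not_near hsn) with h1 | h1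
  · left
    rw [hv'] at h1
    have h2 := dvd3 hs h1
    rw [pv3] at h2
    have h3 : s ∣ v ^ 2 + v + 1 := by exact_mod_cast h2
    exact (torAt_eq h (tor_G2_3 hv hN3 hs h3 (h.ne_three hsn)) hs h3 hsn).symm
  · right
    rw [hv'] at h1
    have h2 := dvd6 hs h1
    rw [pv6] at h2
    have h3 : s ∣ v ^ 2 - v + 1 := by
      have : (s : ℤ) ∣ ((v ^ 2 - v + 1 : ℕ) : ℤ) := by
        rw [hN6]
        have e : 1 - (v : ℤ) + (v : ℤ) ^ 2 = (v : ℤ) ^ 2 - v + 1 := by ring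
        rw [e]
        exact h2
      exact Int.natCast_dvd_natCast.1 this
    have h4 := torAt_eq h (tor_G2_6 hv hN6 hs h3 (h.ne_three hsn)) hs h3 hsn
    omega

/-- the number `Φ₁₂(v)` -/
theorem n12 (hv : 2 ≤ v) : ((v ^ 4 - v ^ 2 + 1 : ℕ) : ℤ) = 1 - (v : ℤ) ^ 2 + (v : ℤ) ^ 4 := by
  have hle : v ^ 2 ≤ v ^ 4 := Nat.pow_le_pow_right (by omega) (by norm_num)
  push_cast [Nat.cast_sub hle]
  ring

theorem dvd_n12 (hv : 2 ≤ v) {s : ℕ} (hs : s.Prime) (h : od v s = 12) : s ∣ v ^ 4 - v ^ 2 + 1 := by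
  have h2 := dvd12 hs h
  rw [pv12] at h2
  have : (s : ℤ) ∣ ((v ^ 4 - v ^ 2 + 1 : ℕ) : ℤ) := by
    rw [n12 hv]
    have e : 1 - (v : ℤ) ^ 2 + (v : ℤ) ^ 4 = (v : ℤ) ^ 4 - (v : ℤ) ^ 2 + 1 := by ring
    rw [e]
    exact h2
  exact Int.natCast_dvd_natCast.1 this

/-- **`F₄(v)`** -/
theorem f4_row (hv : Fintype.card F = v) (h : IsoN ↥(chevF4.group F) n) :
    n = v ^ 4 + 1 ∨ n + v ^ 2 = v ^ 4 + 1 := by
  obtain ⟨s, hs, hsn⟩ := h.exists_prime
  have hv' : Nat.card F = v := by rw [Nat.card_eq_fintype_card, hv]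
  have hv2 : 2 ≤ v := by rw [← hv]; exact Fintype.one_lt_card
  have hN8 : ((v ^ 4 + 1 : ℕ) : ℤ) = 1 + (v : ℤ) ^ 4 := by push_cast; ring
  rcases (near_F4 F hs (h.prime_dvd_card hsn)).resolve_left (h.not_near hsn) with h1 | h1
  · left
    rw [hv'] at h1
    have h2 := dvd8 hs h1
    rw [pv8] at h2
    have h3 : s ∣ v ^ 4 + 1 := by exact_mod_cast h2
    exact (torAt_eq h (tor_F4_8 hv hN8 hs h3 (h.ne_two hsn)) hs h3 hsn).symm
  · right
    rw [hv'] at h1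
    have h4 := exact_eq h (exact_F4_12 hv (n12 hv2)) hs (dvd_n12 hv2 hs h1) hsn
    have hle : v ^ 2 ≤ v ^ 4 := Nat.pow_le_pow_right (by omega) (by norm_num)
    omega

/-- **`³D₄(v)`** -/
theorem td4_row {K : Type u} [Field K] [Fintype K] (hv : IsPrimePow v) (hK : Fintype.card K = v ^ 3)
    (h : IsoN ↥(twistedD4 K v) n) : n + v ^ 2 = v ^ 4 + 1 := by
  obtain ⟨s, hs, hsn⟩ := h.exists_prime
  have hv2 := hv.two_le
  have h1 := (TwRows.near_3D4 hv hK hs (h.prime_dvd_card hsn)).resolve_left (h.not_near hsn)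
  have h4 := exact_eq h (exact_tD4_12 hv hK (n12 hv2)) hs (dvd_n12 hv2 hs h1) hsn
  have hle : v ^ 2 ≤ v ^ 4 := Nat.pow_le_pow_right (by omega) (by norm_num)
  omega

/-- **`E₆(v)`** -/
theorem e6_row (hv : Fintype.card F = v) (h : IsoN ↥(chevE6.group F) n) :
    n = v ^ 6 + v ^ 3 + 1 ∨ 3 * n = v ^ 6 + v ^ 3 + 1 := by
  obtain ⟨s, hs, hsn⟩ := h.exists_prime
  have hv' : Nat.card F = v := by rw [Nat.card_eq_fintype_card, hv]
  have hv2 : 2 ≤ v := by rw [← hv]; exact Fintype.one_lt_card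
  have hod := (near_E6 F hs (h.prime_dvd_card hsn)).resolve_left (h.not_near hsn)
  rw [hv'] at hod
  have hdN : s ∣ v ^ 6 + v ^ 3 + 1 := H488.TDRow.dvd_phi9 hs hod
  have hE := exact_E6_9 (F := F) hv (N := v ^ 6 + v ^ 3 + 1) (by push_cast; ring)
  have hg : Nat.gcd 3 (v - 1) = 1 ∨ Nat.gcd 3 (v - 1) = 3 := (Nat.dvd_prime Nat.prime_three).1 (Nat.gcd_dvd_left _ _)
  rcases hg with hg | hg
  · rw [hg, Nat.div_one] at hE
    exact Or.inl (exact_eq h hE hs hdN hsn).symm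
  · right
    rw [hg] at hE
    have h3u : 3 ∣ v - 1 := Nat.gcd_eq_left_iff_dvd.1 hg
    have h3N : 3 ∣ v ^ 6 + v ^ 3 + 1 := by
      obtain ⟨t, ht⟩ := h3u
      have hu1 : v = 3 * t + 1 := by omega
      rw [hu1]
      refine ⟨243 * t ^ 6 + 486 * t ^ 5 + 405 * t ^ 4 + 189 * t ^ 3 + 54 * t ^ 2 + 9 * t + 1, ?_⟩
      ring
    obtain ⟨N, hN⟩ := h3N
    rw [hN, Nat.mul_div_cancel_left _ (by norm_num)] at hE
    have hsN : s ∣ N := by
      rw [hN] at hdN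
      exact ((Nat.Prime.dvd_mul hs).1 hdN).resolve_left fun h3 =>
        h.ne_three hsn ((Nat.prime_dvd_prime_iff_eq hs Nat.prime_three).1 h3)
    rw [← exact_eq h hE hs hsN hsn, hN]

/-- **`²E₆(v)`** -/
theorem te6_row {K : Type u} [Field K] [Fintype K] (hu : IsPrimePow v) (hK : Fintype.card K = v ^ 2)
    (h : IsoN ↥(twistedE6 K v) n) :
    (n + v ^ 3 = v ^ 6 + 1 ∨ 3 * n + v ^ 3 = v ^ 6 + 1) ∨ (v = 2 ∧ (13 ∣ n ∨ 17 ∣ n)) := by
  obtain ⟨s, hs, hsn⟩ := h.exists_prime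
  have hv2 := hu.two_le
  have h8 : 8 ≤ v ^ 3 := by
    calc 8 = 2 ^ 3 := by norm_num
      _ ≤ v ^ 3 := Nat.pow_le_pow_left hv2 3
  rcases (TwRows.near_2E6 hu hK hs (h.prime_dvd_card hsn)).resolve_left (h.not_near hsn) with hod | ⟨h2, h3⟩
  · left
    have hdN : s ∣ v ^ 3 * (v ^ 3 - 1) + 1 := H488.TDRow.dvd_phi18 (by omega) hs hod
    have hNZ : ((v ^ 3 * (v ^ 3 - 1) + 1 : ℕ) : ℤ) = 1 - (v : ℤ) ^ 3 + (v : ℤ) ^ 6 := by
      push_cast [Nat.cast_sub (show 1 ≤ v ^ 3 by omega)]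
      ring
    have hE := exact_tE6_18 hu hK hNZ
    have hg : Nat.gcd 3 (v + 1) = 1 ∨ Nat.gcd 3 (v + 1) = 3 :=
      (Nat.dvd_prime Nat.prime_three).1 (Nat.gcd_dvd_left _ _)
    have e6 : v ^ 3 * (v ^ 3 - 1) + 1 + v ^ 3 = v ^ 6 + 1 := by
      obtain ⟨w, hw⟩ : ∃ w, v ^ 3 = w + 1 := ⟨v ^ 3 - 1, by omega⟩
      have : v ^ 6 = (v ^ 3) ^ 2 := by ring
      rw [this, hw, Nat.add_sub_cancel]
      ring
    rcases hg with hg | hg
    · rw [hg, Nat.div_one] at hE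
      have := exact_eq h hE hs hdN hsn
      left
      omega
    · right
      rw [hg] at hE
      have h3u : 3 ∣ v + 1 := Nat.gcd_eq_left_iff_dvd.1 hg
      have h3N : 3 ∣ v ^ 3 * (v ^ 3 - 1) + 1 := by
        rw [← Int.natCast_dvd_natCast, hNZ]
        obtain ⟨t, ht⟩ := h3u
        have hu1 : (v : ℤ) = 3 * t - 1 := by omega
        rw [hu1]
        refine ⟨243 * t ^ 6 - 486 * t ^ 5 + 405 * t ^ 4 - 189 * t ^ 3 + 54 * t ^ 2 - 9 * t + 1, ?_⟩
        push_cast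
        ring
      obtain ⟨N, hN⟩ := h3N
      rw [hN, Nat.mul_div_cancel_left _ (by norm_num)] at hE
      have hsN : s ∣ N := by
        rw [hN] at hdN
        exact ((Nat.Prime.dvd_mul hs).1 hdN).resolve_left fun h3 =>
          h.ne_three hsn ((Nat.prime_dvd_prime_iff_eq hs Nat.prime_three).1 h3)
      have := exact_eq h hE hs hsN hsn
      rw [← this]
      omega
  · right
    refine ⟨h2, ?_⟩
    rcases h3 with rfl | rfl
    · exact Or.inl hsn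
    · exact Or.inr hsn

/-- **`E₇(v)`** -/
theorem e7_row (hv : Fintype.card F = v) (h : IsoN ↥(chevE7.group F) n) :
    (v = 2 ∧ (n = 127 ∨ n = 73)) ∨ (v = 3 ∧ (n = 1093 ∨ n = 757)) := by
  obtain ⟨s, hs, hsn⟩ := h.exists_prime
  have hcu : Nat.card F = v := by rw [Nat.card_eq_fintype_card, hv]
  have hv2 : 2 ≤ v := by rw [← hv]; exact Fintype.one_lt_card
  obtain ⟨h3, h1⟩ := (near_E7 F hs (h.prime_dvd_card hsn)).resolve_left (h.not_near hsn)
  rw [hcu] at h3 h1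
  obtain ⟨N7, hN7⟩ : ∃ N : ℕ, N = 1 + v + v ^ 2 + v ^ 3 + v ^ 4 + v ^ 5 + v ^ 6 := ⟨_, rfl⟩
  obtain ⟨N9, hN9⟩ : ∃ N : ℕ, N = 1 + v ^ 3 + v ^ 6 := ⟨_, rfl⟩
  have hx7 : CycExact ↥(chevE7.group F) N7 := exact_E7_7 hv h3 (by rw [hN7]; push_cast; ring)
  have hx9 : CycExact ↥(chevE7.group F) N9 := exact_E7_9 hv h3 (by rw [hN9]; push_cast; ring)
  have hv3 : v = 2 ∨ v = 3 := by omega
  rcases h1 with h1 | h1
  · have hd := dvd7 hs h1
    have hd' : s ∣ N7 := by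
      rw [← Int.natCast_dvd_natCast, hN7]
      rw [pv7] at hd
      convert hd using 1
      push_cast
      ring
    have he := exact_eq h hx7 hs hd' hsn
    rw [← he, hN7]
    rcases hv3 with rfl | rfl
    · exact Or.inl ⟨rfl, Or.inl (by norm_num)⟩
    · exact Or.inr ⟨rfl, Or.inl (by norm_num)⟩
  · have hd := dvd9 hs h1
    have hd' : s ∣ N9 := by
      rw [← Int.natCast_dvd_natCast, hN9]
      rw [pv9] at hd
      convert hd using 1
      push_cast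
      ring
    have he := exact_eq h hx9 hs hd' hsn
    rw [← he, hN9]
    rcases hv3 with rfl | rfl
    · exact Or.inl ⟨rfl, Or.inr (by norm_num)⟩
    · exact Or.inr ⟨rfl, Or.inr (by norm_num)⟩

/-- **`E₈(v)`** -/
theorem e8_row (hv : Fintype.card F = v) (h : IsoN ↥(chevE8.group F) n) (h5 : ¬ 5 ∣ n) :
    (n : ℤ) = 1 - (v : ℤ) + (v : ℤ) ^ 3 - (v : ℤ) ^ 4 + (v : ℤ) ^ 5 - (v : ℤ) ^ 7 + (v : ℤ) ^ 8 ∨
      (n : ℤ) = 1 - (v : ℤ) ^ 2 + (v : ℤ) ^ 4 - (v : ℤ) ^ 6 + (v : ℤ) ^ 8 ∨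
      (n : ℤ) = 1 - (v : ℤ) ^ 4 + (v : ℤ) ^ 8 ∨
      (n : ℤ) = 1 + (v : ℤ) - (v : ℤ) ^ 3 - (v : ℤ) ^ 4 - (v : ℤ) ^ 5 + (v : ℤ) ^ 7 + (v : ℤ) ^ 8 := by
  obtain ⟨s, hs, hsn⟩ := h.exists_prime
  have hcu : Nat.card F = v := by rw [Nat.card_eq_fintype_card, hv]
  have hv2 : 2 ≤ v := by rw [← hv]; exact Fintype.one_lt_card
  obtain ⟨w, rfl⟩ : ∃ w, v = w + 2 := ⟨v - 2, by omega⟩
  have h1 := (near_E8 F hs (h.prime_dvd_card hsn)).resolve_left (h.not_near hsn)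
  rw [hcu] at h1
  obtain ⟨N15, hN15⟩ := H528.TDRow.E78.nn15 w
  obtain ⟨N20, hN20⟩ := H528.TDRow.E78.nn20 w
  obtain ⟨N24, hN24⟩ := H528.TDRow.E78.nn24 w
  obtain ⟨N30, hN30⟩ := H528.TDRow.E78.nn30 w
  have x15 : CycExact ↥(chevE8.group F) N15 := exact_E8_15 hv hN15
  have x24 : CycExact ↥(chevE8.group F) N24 := exact_E8_24 hv hN24
  have x30 : CycExact ↥(chevE8.group F) N30 := exact_E8_30 hv hN30
  rcases h1 with h1 | h1 | h1 | h1
  · left
    have hd := dvd15 hs h1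
    have hd' : s ∣ N15 := by
      rw [← Int.natCast_dvd_natCast, hN15]
      rw [pv15] at hd
      refine hd.trans (dvd_of_eq ?_)
      ring
    rw [← exact_eq h x15 hs hd' hsn, hN15]
  · right; left
    obtain ⟨T20, hT20c, hT20, hT20'⟩ := H528.TDRow.E78.torus_E8_20 (F := F) hv hN20
    have hd := dvd20 hs h1
    have hd' : s ∣ N20 := by
      rw [← Int.natCast_dvd_natCast, hN20]
      rw [pv20] at hd
      refine hd.trans (dvd_of_eq ?_)
      ring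
    have he := card_eq h hT20c hs (by rw [hT20]; exact hd') (hT20' s hs hd' (by
      rintro rfl
      exact h5 hsn)) hsn
    rw [hT20] at he
    rw [← he, hN20]
  · right; right; left
    have hd := dvd24 hs h1
    have hd' : s ∣ N24 := by
      rw [← Int.natCast_dvd_natCast, hN24]
      rw [pv24] at hd
      refine hd.trans (dvd_of_eq ?_)
      ring
    rw [← exact_eq h x24 hs hd' hsn, hN24]
  · right; right; right
    have hd := dvd30 hs h1
    have hd' : s ∣ N30 := by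
      rw [← Int.natCast_dvd_natCast, hN30]
      rw [pv30] at hd
      refine hd.trans (dvd_of_eq ?_)
      ring
    rw [← exact_eq h x30 hs hd' hsn, hN30]

end

end Cfsg.Agent.H72.F4I
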