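import Cfsg.Agent.H72.F4I.NumC

/-!
# Identification of `F₄(q)`: the numbers of the exceptional rows (helper72)
-/

set_option autoImplicit false

namespace Cfsg.Agent.H72.F4I

variable {q : ℕ}

/-- `u³ + 1 = q²` : `u = 2`, `q = 3` -/
theorem cube_add_one {u : ℕ} (hq : 2 ≤ q) (hu : IsPrimePow u) (h : u ^ 3 + 1 = q ^ 2) : u = 2 ∧ q = 3 := by
  obtain ⟨r, f, hr, hf, rfl⟩ := hu
  have hr : r.Prime := Nat.prime_iff.2 hr
  have hq3 : q ≠ 2 := by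
    rintro rfl
    have h1 : 2 ^ 1 ≤ r ^ f := by
      calc 2 ^ 1 ≤ r ^ 1 := Nat.pow_le_pow_left hr.two_le 1
        _ ≤ r ^ f := Nat.pow_le_pow_right hr.pos hf
    have h2 : (2 ^ 1) ^ 3 ≤ (r ^ f) ^ 3 := Nat.pow_le_pow_left h1 3
    omega
  have h1 : (q - 1) * (q + 1) = r ^ (f * 3) := by
    obtain ⟨t, rfl⟩ : ∃ t, q = t + 1 := ⟨q - 1, by omega⟩
    rw [Nat.add_sub_cancel, pow_mul]
    nlinarith
  obtain ⟨a, ha, ha'⟩ := (Nat.dvd_prime_pow hr).1 (h1 ▸ Dvd.intro _ rfl : q - 1 ∣ r ^ (f * 3))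
  obtain ⟨b, hb, hb'⟩ := (Nat.dvd_prime_pow hr).1 (h1 ▸ Dvd.intro_left _ rfl : q + 1 ∣ r ^ (f * 3))
  have ha0 : a ≠ 0 := by rintro rfl; rw [pow_zero] at ha'; omega
  have hb0 : b ≠ 0 := by rintro rfl; rw [pow_zero] at hb'; omega
  have hr2 : r = 2 := by
    have h2 : r ∣ q - 1 := ha' ▸ dvd_pow_self r ha0
    have h3 : r ∣ q + 1 := hb' ▸ dvd_pow_self r hb0
    have h4 : r ∣ 2 := by
      have := Nat.dvd_sub h3 h2
      rwa [show q + 1 - (q - 1) = 2 by omega] at this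
    exact (Nat.prime_dvd_prime_iff_eq hr Nat.prime_two).1 h4
  subst hr2
  have ha1 : a = 1 := by
    by_contra hcon
    have h4 : 4 ∣ q - 1 := by rw [ha']; exact (by norm_num : (4 : ℕ) = 2 ^ 2) ▸ pow_dvd_pow 2 (by omega)
    have hb2 : b ≠ 1 := by rintro rfl; omega
    have h5 : 4 ∣ q + 1 := by rw [hb']; exact (by norm_num : (4 : ℕ) = 2 ^ 2) ▸ pow_dvd_pow 2 (by omega)
    omega
  subst ha1
  have hq3 : q = 3 := by omega
  subst hq3
  refine ⟨?_, rfl⟩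
  have h5 : (2 ^ f) ^ 3 = 2 ^ 3 := by omega
  exact Nat.pow_left_injective (by norm_num : (3 : ℕ) ≠ 0) h5

theorem mm_mono {c : ℕ} (hc : 1 ≤ c) (h : c ≤ q) : mm c ≤ mm q := by
  have h1 := mm_eq hc
  have h2 := mm_eq (show 1 ≤ q by omega)
  have h3 : c ^ 2 ≤ q ^ 2 := Nat.pow_le_pow_left h 2
  rw [h1, h2]
  have := Nat.mul_le_mul h3 (Nat.sub_le_sub_right h3 1)
  omega

theorem ne_1093 : mm q ≠ 1093 := by
  intro h
  rcases Nat.lt_or_ge q 6 with h6 | h6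
  · interval_cases q <;> revert h <;> decide
  · have := mm_mono (by norm_num) h6
    rw [h] at this
    revert this
    decide

theorem ne_757 : mm q ≠ 757 := by
  intro h
  rcases Nat.lt_or_ge q 6 with h6 | h6
  · interval_cases q <;> revert h <;> decide
  · have := mm_mono (by norm_num) h6
    rw [h] at this
    revert this
    decide

theorem eq_three (h : mm q = 73) : q = 3 := by
  rcases Nat.lt_or_ge q 4 with h6 | h6
  · interval_cases q <;> revert h <;> decide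
  · have := mm_mono (by norm_num) h6
    rw [h] at this
    exact absurd this (by decide)

theorem eq_two (hq : 2 ≤ q) (h : mm q ≤ 13) : q = 2 := by
  by_contra hne
  have := mm_mono (c := 3) (q := q) (by norm_num) (by omega)
  have h2 : mm 3 = 73 := rfl
  omega

/-- the number of `E₈(v)` of class 20 -/
theorem ne_e20 (hqp : IsPrimePow q) {v : ℕ} (hv : IsPrimePow v) :
    (mm q : ℤ) ≠ 1 - (v : ℤ) ^ 2 + (v : ℤ) ^ 4 - (v : ℤ) ^ 6 + (v : ℤ) ^ 8 := by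
  intro h1
  have hv2 := hv.two_le
  have hq2 := hqp.two_le
  have hQ4 := four_le_sq hq2
  obtain ⟨w, hw⟩ : ∃ w, v ^ 2 = w + 1 := ⟨v ^ 2 - 1, by
    have : 1 ≤ v ^ 2 := Nat.one_le_pow _ _ (by omega)
    omega⟩
  have hw3 : 3 ≤ w := by nlinarith
  obtain ⟨R, hR⟩ : ∃ R, q ^ 2 = R + 1 := ⟨q ^ 2 - 1, by omega⟩
  have hn : mm q = (w + 1) * (w * ((w + 1) ^ 2 + 1)) + 1 := by
    zify
    rw [h1]
    have e : ((v : ℤ)) ^ 2 = w + 1 := by exact_mod_cast hw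
    have e4 : ((v : ℤ)) ^ 4 = (w + 1) ^ 2 := by rw [← e]; ring
    have e6 : ((v : ℤ)) ^ 6 = (w + 1) ^ 3 := by rw [← e]; ring
    have e8 : ((v : ℤ)) ^ 8 = (w + 1) ^ 4 := by rw [← e]; ring
    rw [e, e4, e6, e8]
    ring
  have hco : Nat.Coprime (w + 1) (w * ((w + 1) ^ 2 + 1)) := by
    refine Nat.Coprime.mul_right ?_ ?_
    · simp
    · rw [pow_two]
      simp
  have hup : IsPrimePow (w + 1) := by
    rw [← hw]
    exact hv.pow two_ne_zero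
  rcases split hqp hup hco hn with ⟨h2, h3⟩ | h3
  · rw [← h2, Nat.add_sub_cancel] at h3
    have := Nat.eq_of_mul_eq_mul_left (show 0 < w by omega) (h3.trans (mul_one w).symm)
    nlinarith
  · -- `P = Q k`, `(w + 1) k = R`
    obtain ⟨k, hk⟩ := h3
    have h4 : (w + 1) * k = R := by
      have h5 := mm_eq (q := q) (by omega)
      rw [hn, hk, hR, Nat.add_sub_cancel] at h5
      have h6 : (R + 1) * ((w + 1) * k) = (R + 1) * R := by linarith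
      exact Nat.eq_of_mul_eq_mul_left (by omega) h6
    rw [hR, ← h4] at hk
    -- `w ((w+1)² + 1) = ((w+1) k + 1) k`
    rcases Nat.lt_or_ge k w with h5 | h5
    · have h6 : ((w + 1) * k + 1) * k < (w + 1) * w * w := by
        obtain ⟨j, rfl⟩ : ∃ j, w = k + 1 + j := ⟨w - (k + 1), by omega⟩
        nlinarith [Nat.zero_le (k * j), Nat.zero_le (k * k * j), Nat.zero_le (j * j * k)]
      nlinarith
    · rcases Nat.eq_or_lt_of_le h5 with h6 | h6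
      · subst h6
        nlinarith
      · have h7 : ((w + 1) * (w + 1) + 1) * (w + 1) ≤ ((w + 1) * k + 1) * k := by
          refine Nat.mul_le_mul ?_ (by omega)
          have := Nat.mul_le_mul_left (w + 1) (show w + 1 ≤ k by omega)
          omega
        nlinarith

/-- the equation `n = v P + 1` -/
theorem split_int (hqp : IsPrimePow q) {v : ℕ} (hv : IsPrimePow v) {P a : ℤ} (hP : (v : ℤ) ≤ P)
    (h1 : (mm q : ℤ) = v * P + 1) (hco : v * a + P = 1 ∨ v * a + P = -1) :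
    ∃ k : ℤ, 0 < k ∧ P = (v * k + 1) * k := by
  have hv2 := hv.two_le
  have hq2 := hqp.two_le
  have hQ4 := four_le_sq hq2
  obtain ⟨P', rfl⟩ : ∃ P' : ℕ, P = (P' : ℤ) := ⟨P.toNat, (Int.toNat_of_nonneg (by omega)).symm⟩
  have hP' : v ≤ P' := by exact_mod_cast hP
  have h2 : mm q = v * P' + 1 := by exact_mod_cast h1
  have hc : Nat.Coprime v P' := by
    rw [← Nat.isCoprime_iff_coprime]
    rcases hco with h3 | h3
    · exact ⟨a, 1, by linear_combination h3⟩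
    · exact ⟨-a, -1, by linear_combination -h3⟩
  obtain ⟨R, hR⟩ : ∃ R, q ^ 2 = R + 1 := ⟨q ^ 2 - 1, by omega⟩
  rcases split hqp hv hc h2 with ⟨h3, h4⟩ | h3
  · omega
  · obtain ⟨k, hk⟩ := h3
    have h4 : v * k = R := by
      have h5 := mm_eq (q := q) (by omega)
      rw [h2, hk, hR, Nat.add_sub_cancel] at h5
      have h6 : (R + 1) * (v * k) = (R + 1) * R := by linarith
      exact Nat.eq_of_mul_eq_mul_left (by omega) h6
    refine ⟨k, ?_, ?_⟩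
    · have : k ≠ 0 := by
        rintro rfl
        omega
      omega
    · rw [hR, ← h4] at hk
      exact_mod_cast hk

/-- the number of `E₈(v)` of class 30 -/
theorem ne_e30 (hqp : IsPrimePow q) {v : ℕ} (hv : IsPrimePow v) :
    (mm q : ℤ) ≠ 1 + (v : ℤ) - (v : ℤ) ^ 3 - (v : ℤ) ^ 4 - (v : ℤ) ^ 5 + (v : ℤ) ^ 7 + (v : ℤ) ^ 8 := by
  intro h1
  have hv2 : (2 : ℤ) ≤ v := by exact_mod_cast hv.two_le
  obtain ⟨k, hk0, hk⟩ := split_int hqp hv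
    (P := (v : ℤ) ^ 7 + (v : ℤ) ^ 6 - (v : ℤ) ^ 4 - (v : ℤ) ^ 3 - (v : ℤ) ^ 2 + 1)
    (a := -((v : ℤ) ^ 6 + (v : ℤ) ^ 5 - (v : ℤ) ^ 3 - (v : ℤ) ^ 2 - (v : ℤ)))
    (by
      obtain ⟨w, hw⟩ : ∃ w : ℤ, (v : ℤ) = w + 2 := ⟨v - 2, by ring⟩
      have hw0 : 0 ≤ w := by omega
      rw [hw, ← sub_nonneg]
      ring_nf
      positivity)
    (by rw [h1]; ring) (Or.inl (by ring))
  generalize (v : ℤ) = x at *
  obtain ⟨l, hl⟩ : ∃ l : ℤ, k = 1 + x * l := ⟨x ^ 6 + x ^ 5 - x ^ 3 - x ^ 2 - x - k ^ 2, by linear_combination -hk⟩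
  have hl' : l = x ^ 6 + x ^ 5 - x ^ 3 - x ^ 2 - x - k ^ 2 := by
    have h2 : x * l = x * (x ^ 6 + x ^ 5 - x ^ 3 - x ^ 2 - x - k ^ 2) := by linear_combination -hk - hl
    exact mul_left_cancel₀ (by omega) h2
  obtain ⟨j, hj⟩ : ∃ j : ℤ, l = -1 + x * j := ⟨x ^ 5 + x ^ 4 - x ^ 2 - x - 1 - 2 * l - x * l ^ 2, by
    rw [hl] at hl'
    linear_combination hl'⟩
  have hj' : j = x ^ 5 + x ^ 4 - x ^ 2 - x - 1 - 2 * l - x * l ^ 2 := by
    have h2 : x * j = x * (x ^ 5 + x ^ 4 - x ^ 2 - x - 1 - 2 * l - x * l ^ 2) := by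
      rw [hl] at hl'
      linear_combination hl' - hj
    exact mul_left_cancel₀ (by omega) h2
  obtain ⟨i, hi⟩ : ∃ i : ℤ, j = 1 + x * i := ⟨x ^ 4 + x ^ 3 - x - 2 - 2 * j + 2 * x * j - x ^ 2 * j ^ 2, by
    rw [hj] at hj'
    linear_combination hj'⟩
  have hke : k = x ^ 3 * i + x ^ 2 - x + 1 := by rw [hl, hj, hi]; ring
  obtain ⟨w, rfl⟩ : ∃ w : ℤ, x = w + 2 := ⟨x - 2, by ring⟩
  have hw0 : 0 ≤ w := by omega
  rcases lt_trichotomy i 0 with h5 | h5 | h5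
  · have h6 : (w + 2) ^ 3 * i ≤ (w + 2) ^ 3 * (-1) := mul_le_mul_of_nonneg_left (by omega) (by positivity)
    have h7 : 0 < (w + 2) ^ 3 * 1 - (w + 2) ^ 2 + (w + 2) - 1 := by
      ring_nf
      positivity
    linarith
  · rw [h5, mul_zero, zero_add] at hke
    rw [hke, ← sub_eq_zero] at hk
    have h7 : 0 < (w + 2) ^ 7 + (w + 2) ^ 6 - (w + 2) ^ 4 - (w + 2) ^ 3 - (w + 2) ^ 2 + 1 -
        ((w + 2) * ((w + 2) ^ 2 - (w + 2) + 1) + 1) * ((w + 2) ^ 2 - (w + 2) + 1) := by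
      ring_nf
      positivity
    exact h7.ne' hk
  · obtain ⟨k', hk'⟩ : ∃ k' : ℤ, k' = (w + 2) ^ 3 * 1 + (w + 2) ^ 2 - (w + 2) + 1 := ⟨_, rfl⟩
    have h6 : k' ≤ k := by
      rw [hk', hke]
      have := mul_le_mul_of_nonneg_left (show (1 : ℤ) ≤ i by omega) (show 0 ≤ (w + 2) ^ 3 by positivity)
      linarith
    have hk'0 : 0 ≤ k' := by
      rw [hk']
      ring_nf
      positivity
    have h8 : ((w + 2) * k' + 1) * k' ≤ ((w + 2) * k + 1) * k := by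
      refine mul_le_mul ?_ h6 hk'0 (by positivity)
      have := mul_le_mul_of_nonneg_left h6 (show 0 ≤ w + 2 by omega)
      linarith
    rw [← hk, hk', ← sub_nonneg] at h8
    have h7 : 0 < -((w + 2) ^ 7 + (w + 2) ^ 6 - (w + 2) ^ 4 - (w + 2) ^ 3 - (w + 2) ^ 2 + 1 -
        ((w + 2) * ((w + 2) ^ 3 * 1 + (w + 2) ^ 2 - (w + 2) + 1) + 1) *
          ((w + 2) ^ 3 * 1 + (w + 2) ^ 2 - (w + 2) + 1)) := by
      ring_nf
      positivity
    linarith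

/-- the number of `E₈(v)` of class 15 -/
theorem ne_e15 (hqp : IsPrimePow q) {v : ℕ} (hv : IsPrimePow v) :
    (mm q : ℤ) ≠ 1 - (v : ℤ) + (v : ℤ) ^ 3 - (v : ℤ) ^ 4 + (v : ℤ) ^ 5 - (v : ℤ) ^ 7 + (v : ℤ) ^ 8 := by
  intro h1
  have hv2 : (2 : ℤ) ≤ v := by exact_mod_cast hv.two_le
  obtain ⟨k, hk0, hk⟩ := split_int hqp hv
    (P := (v : ℤ) ^ 7 - (v : ℤ) ^ 6 + (v : ℤ) ^ 4 - (v : ℤ) ^ 3 + (v : ℤ) ^ 2 - 1)
    (a := -((v : ℤ) ^ 6 - (v : ℤ) ^ 5 + (v : ℤ) ^ 3 - (v : ℤ) ^ 2 + (v : ℤ)))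
    (by
      obtain ⟨w, hw⟩ : ∃ w : ℤ, (v : ℤ) = w + 2 := ⟨v - 2, by ring⟩
      have hw0 : 0 ≤ w := by omega
      rw [hw, ← sub_nonneg]
      ring_nf
      positivity)
    (by rw [h1]; ring) (Or.inr (by ring))
  generalize (v : ℤ) = x at *
  obtain ⟨l, hl⟩ : ∃ l : ℤ, k = -1 + x * l := ⟨x ^ 6 - x ^ 5 + x ^ 3 - x ^ 2 + x - k ^ 2, by linear_combination -hk⟩
  have hl' : l = x ^ 6 - x ^ 5 + x ^ 3 - x ^ 2 + x - k ^ 2 := by
    have h2 : x * l = x * (x ^ 6 - x ^ 5 + x ^ 3 - x ^ 2 + x - k ^ 2) := by linear_combination -hk - hl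
    exact mul_left_cancel₀ (by omega) h2
  obtain ⟨j, hj⟩ : ∃ j : ℤ, l = -1 + x * j := ⟨x ^ 5 - x ^ 4 + x ^ 2 - x + 1 + 2 * l - x * l ^ 2, by
    rw [hl] at hl'
    linear_combination hl'⟩
  have hj' : j = x ^ 5 - x ^ 4 + x ^ 2 - x + 1 + 2 * l - x * l ^ 2 := by
    have h2 : x * j = x * (x ^ 5 - x ^ 4 + x ^ 2 - x + 1 + 2 * l - x * l ^ 2) := by
      rw [hl] at hl'
      linear_combination hl' - hj
    exact mul_left_cancel₀ (by omega) h2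
  obtain ⟨i, hi⟩ : ∃ i : ℤ, j = -1 + x * i := ⟨x ^ 4 - x ^ 3 + x - 2 + 2 * j + 2 * x * j - x ^ 2 * j ^ 2, by
    rw [hj] at hj'
    linear_combination hj'⟩
  have hke : k = x ^ 3 * i - x ^ 2 - x - 1 := by rw [hl, hj, hi]; ring
  obtain ⟨w, rfl⟩ : ∃ w : ℤ, x = w + 2 := ⟨x - 2, by ring⟩
  have hw0 : 0 ≤ w := by omega
  rcases lt_trichotomy i 1 with h5 | h5 | h5
  · have h6 : (w + 2) ^ 3 * i ≤ (w + 2) ^ 3 * 0 := mul_le_mul_of_nonneg_left (by omega) (by positivity)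
    have h7 : 0 < (w + 2) ^ 2 + (w + 2) + 1 := by positivity
    linarith
  · rw [h5, mul_one] at hke
    rw [hke, ← sub_eq_zero] at hk
    have h7 : 0 < (w + 2) ^ 7 - (w + 2) ^ 6 + (w + 2) ^ 4 - (w + 2) ^ 3 + (w + 2) ^ 2 - 1 -
        ((w + 2) * ((w + 2) ^ 3 - (w + 2) ^ 2 - (w + 2) - 1) + 1) * ((w + 2) ^ 3 - (w + 2) ^ 2 - (w + 2) - 1) := by
      ring_nf
      positivity
    exact h7.ne' hk
  · obtain ⟨k', hk'⟩ : ∃ k' : ℤ, k' = (w + 2) ^ 3 * 2 - (w + 2) ^ 2 - (w + 2) - 1 := ⟨_, rfl⟩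
    have h6 : k' ≤ k := by
      rw [hk', hke]
      have := mul_le_mul_of_nonneg_left (show (2 : ℤ) ≤ i by omega) (show 0 ≤ (w + 2) ^ 3 by positivity)
      linarith
    have hk'0 : 0 ≤ k' := by
      rw [hk']
      ring_nf
      positivity
    have h8 : ((w + 2) * k' + 1) * k' ≤ ((w + 2) * k + 1) * k := by
      refine mul_le_mul ?_ h6 hk'0 (by positivity)
      have := mul_le_mul_of_nonneg_left h6 (show 0 ≤ w + 2 by omega)
      linarith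
    rw [← hk, hk', ← sub_nonneg] at h8
    have h7 : 0 < -((w + 2) ^ 7 - (w + 2) ^ 6 + (w + 2) ^ 4 - (w + 2) ^ 3 + (w + 2) ^ 2 - 1 -
        ((w + 2) * ((w + 2) ^ 3 * 2 - (w + 2) ^ 2 - (w + 2) - 1) + 1) *
          ((w + 2) ^ 3 * 2 - (w + 2) ^ 2 - (w + 2) - 1)) := by
      ring_nf
      positivity
    linarith

end Cfsg.Agent.H72.F4I
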