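import Cfsg.Agent.H72.F4I.Cla
import Cfsg.Agent.H72.F4I.Exc
import Cfsg.Agent.H72.F4I.Spor
import Cfsg.Agent.H64.ChevField
import Cfsg.Prelude.Def_Classification2

/-!
# Identification of `F₄(q)` by three properties of the element orders (helper72, statement S3479)

`ident_F4` : a known nonabelian simple group with `FS q S` is `F₄(q)`.
-/

set_option autoImplicit false
set_option linter.unusedSectionVars false

namespace Cfsg.Agent.H72.F4I

open Cfsg Cfsg.Lie

universe u v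

variable {q : ℕ}

/-- **The identification of `F₄(q)`.** -/
theorem ident_F4 {S : Type u} [Group S] [Finite S] (hna : ¬ IsMulCommutative S) (hk : IsKnownSimple' S)
    (h : FS q S) {K : Type v} [Field K] [Fintype K] (hK : Fintype.card K = q) :
    Nonempty (S ≃* ↥(chevF4.group K)) := by
  rcases hk with hk | hk | hk | hk | hk | hk | hk | hk | hk | hk
  · exfalso
    have f : Fact (Nat.card S).Prime := ⟨hk⟩
    have hc : IsCyclic S := isCyclic_of_prime_card (p := Nat.card S) rfl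
    exact hna ⟨⟨fun a b => (IsCyclic.commGroup (α := S)).mul_comm a b⟩⟩
  · obtain ⟨m, -, ⟨e⟩⟩ := hk
    exact (row_alt (h.congr e)).elim
  · obtain ⟨F, _, _, m, hm, h4, ⟨e⟩⟩ := hk
    rcases Nat.lt_or_ge m 3 with h3 | h3
    · obtain rfl : m = 2 := by omega
      exact (row_psl2 (h4 rfl) (h.congr e)).elim
    · exact (row_psl h3 (h.congr e)).elim
  · obtain ⟨F, _, _, m, hm, h4, ⟨e⟩⟩ := hk
    exact (row_psp hm h4 (h.congr e)).elim
  · obtain ⟨F, _, _, m, w, hF, hm, h4, ⟨e⟩⟩ := hk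
    exact (row_psu hF hm h4 (h.congr e)).elim
  · obtain ⟨F, _, _, m, hm, h4, ⟨e⟩⟩ := hk
    exact (row_omega_odd hm h4 (h.congr e)).elim
  · obtain ⟨F, _, _, m, hm, ⟨e⟩⟩ := hk
    exact (row_omega_plus hm (h.congr e)).elim
  · obtain ⟨F, _, _, m, a, b, hm, hab, ⟨e⟩⟩ := hk
    exact (row_omega_minus hm hab (h.congr e)).elim
  · rcases hk with hk | hk | hk | hk | hk | hk | hk | hk | hk | hk | hk
    · obtain ⟨F, _, _, -, ⟨e⟩⟩ := hk
      exact (row_G2 (h.congr e)).elim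
    · obtain ⟨F, _, _, ⟨e⟩⟩ := hk
      have h1 := row_F4 (h.congr e)
      exact ⟨e.trans (H64.ChevField.groupCongr (FiniteField.ringEquivOfCardEq (h1.trans hK.symm)) chevF4)⟩
    · obtain ⟨F, _, _, ⟨e⟩⟩ := hk
      exact (row_E6 (h.congr e)).elim
    · obtain ⟨F, _, _, ⟨e⟩⟩ := hk
      exact (row_E7 (h.congr e)).elim
    · obtain ⟨F, _, _, ⟨e⟩⟩ := hk
      exact (row_E8 (h.congr e)).elim
    · obtain ⟨L, _, _, w, hw, hL, ⟨e⟩⟩ := hk
      exact (row_2E6 hw hL (h.congr e)).elim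
    · obtain ⟨L, _, _, w, hw, hL, ⟨e⟩⟩ := hk
      exact (row_3D4 hw hL (h.congr e)).elim
    · obtain ⟨F, _, _, m, hm, hF, ⟨e⟩⟩ := hk
      exact (row_sz hm hF (h.congr e)).elim
    · obtain ⟨F, _, _, m, hm, hF, ⟨e⟩⟩ := hk
      exact (row_ree hm hF (h.congr e)).elim
    · obtain ⟨F, _, _, m, hm, hF, ⟨e⟩⟩ := hk
      exact (row_2F4 hm hF (h.congr e)).elim
    · exact (row_tits h hk).elim
  · exact (row_spor h hk).elim

end Cfsg.Agent.H72.F4I
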