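import Cfsg.Agent.H72.F4I.Sit

/-!
# Identification of `F₄(q)`: the classical rows (helper72, statement S3479)
-/

set_option autoImplicit false
set_option linter.unusedSectionVars false

namespace Cfsg.Agent.H72.F4I

open Cfsg Cfsg.Agent.H72.F4I.Iso

universe u

variable {q : ℕ}

/-- **`A_m`** -/
theorem row_alt {m : ℕ} (h : FS q (alternatingGroup (Fin m))) : False := by
  obtain ⟨t, ht, hN⟩ := h.exists_t
  obtain ⟨h1, h2, h3⟩ := alt_t h.isoN ht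
  exact hN.near h1 dvd_rfl h3 h2

variable {F : Type u} [Field F] [Fintype F]

/-- **`PSL₂(u)`** -/
theorem row_psl2 (h4 : 4 ≤ Fintype.card F) (h : FS q (Matrix.ProjectiveSpecialLinearGroup (Fin 2) F)) : False := by
  obtain ⟨t, ht, hN⟩ := h.exists_t
  rcases psl2_t h4 rfl h.isoN ht hN.not_n with ⟨y, h1, h2, h3, h5⟩ | ⟨h1, h2⟩ | ⟨y, f, h1, h2, h3, h5, h6⟩
  · exact hN.near h1 h2 (by omega) h5
  · exact hN.psl_two h1 h2
  · exact hN.psl_three h1 h2 h3 h5 h6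

/-- **`PSL_m(u)`, `m ≥ 3`** -/
theorem row_psl {m : ℕ} (hm : 3 ≤ m) (h : FS q (Matrix.ProjectiveSpecialLinearGroup (Fin m) F)) : False := by
  obtain ⟨t, ht, hN⟩ := h.exists_t
  have hu : 2 ≤ Nat.card F := Finite.one_lt_card
  rcases psl_t hm rfl h.isoN ht hN.not_n with ⟨y, s, h1, h2, h3, h5, h6⟩ | ⟨y, h1, h2, h3⟩ | ⟨h1, h2⟩
  · exact hN.lin_one h1 h2 hu h3 h5 h6
  · exact hN.lin_two h1 h2 h3
  · rcases h2 with h2 | h2
    · have h3 := eq_add h.two_le h2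
      have h5 := (ZMod.natCast_eq_zero_iff _ t).2 h1
      have h6 : ((Nat.card F + 1 : ℕ) : ZMod t) = ((q ^ 2 : ℕ) : ZMod t) := by rw [h3]
      rw [Nat.cast_add, h5, zero_add, Nat.cast_one] at h6
      exact hN.ne_one (e := 1) (by ring) h6.symm
    · exact ne_three h.pp _ h2

/-- **`PSU_m(u)`, `m ≥ 3`** -/
theorem row_psu {m u : ℕ} (hF : Fintype.card F = u ^ 2) (hm : 3 ≤ m)
    (hne : ¬ (m = 3 ∧ u = 2)) (h : FS q (Cfsg.PSU m F u)) : False := by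
  obtain ⟨t, ht, hN⟩ := h.exists_t
  have hu : 2 ≤ u := Cfsg.Agent.LieClassical.HermBasic.two_le hF
  rcases psu_t hF hm hne h.isoN ht hN.not_n h.mod with ⟨y, g, s, h1, h2, h3, h5, h6⟩ | ⟨y, h1, h2, -, h3⟩ | ⟨h1, h2⟩
  · rcases h6 with ⟨h6, h7, h8⟩ | ⟨h6, h7, h8⟩
    · exact hN.uni_one h1 h2 hm h3 h5 h7 h6 h8
    · exact hN.uni_one' h1 h2 h5 h8
  · exact hN.uni_two h1 h2 hu h3
  · rcases h2 with h2 | h2
    · have h3 := eq_sub h.two_le h2 (by omega)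
      rw [h3] at h1
      exact hN.not_Q h1
    · refine ne_three h.pp (u - 1) ?_
      obtain ⟨v, rfl⟩ : ∃ v, u = v + 1 := ⟨u - 1, by omega⟩
      rw [Nat.add_sub_cancel]
      nlinarith

/-- **`PSp_{2m}(u)`** -/
theorem row_psp {m : ℕ} (hm : 2 ≤ m) (hsmall : m = 2 → 3 ≤ Fintype.card F) (h : FS q (Cfsg.PSp m F)) : False := by
  obtain ⟨t, ht, hN⟩ := h.exists_t
  obtain ⟨y, h1, h2, h3, h4⟩ := psp_t hm hsmall h.isoN ht hN.not_n
  exact hN.near h1 h2 (by omega) h4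

/-- **`Ω_{2m+1}(u)`** -/
theorem row_omega_odd {m : ℕ} (hm : 3 ≤ m) (ho : Odd (Fintype.card F))
    (h : FS q (Cfsg.POmega F (Cfsg.quadFormOdd m F))) : False := by
  obtain ⟨t, ht, hN⟩ := h.exists_t
  obtain ⟨y, h1, h2, h3, h4⟩ := omegaOdd_t hm ho h.isoN ht hN.not_n
  exact hN.near h1 h2 (by omega) h4

/-- **`PΩ⁺_{2m}(u)`** -/
theorem row_omega_plus {m : ℕ} (hm : 4 ≤ m) (h : FS q (Cfsg.POmega F (Cfsg.quadFormPlus m F))) : False := by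
  obtain ⟨t, ht, hN⟩ := h.exists_t
  obtain ⟨u, h0⟩ := plus_t hm h.isoN ht hN.not_n
  rcases h0 with ⟨y, h1, h2, h3, h4⟩ | ⟨y, h1, h2, h3, h4, h5⟩
  · exact hN.near h1 h2 (by omega) h4
  · exact hN.plus_two h1 h2 h3 h4 h5

/-- **`PΩ⁻_{2m}(u)`** -/
theorem row_omega_minus {m : ℕ} {a b : F} (hm : 4 ≤ m)
    (hab : ∀ z₁ z₂ : F, z₁ ^ 2 + a * z₁ * z₂ + b * z₂ ^ 2 = 0 → z₁ = 0 ∧ z₂ = 0)
    (h : FS q (Cfsg.POmega F (Cfsg.quadFormMinus (m - 1) F a b))) : False := by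
  obtain ⟨t, ht, hN⟩ := h.exists_t
  have hu : 2 ≤ Nat.card F := Finite.one_lt_card
  rcases minus_t hm hab h.isoN ht hN.not_n with ⟨h1, h2, h3⟩ | ⟨y, h1, h2, h3, h4, h5, h6⟩ | ⟨y, h1, h2, h3⟩ |
    ⟨y, z, h1, h2, h3, h4, h5⟩
  · obtain ⟨k, rfl⟩ := h1
    rcases Nat.lt_or_ge q 3 with hq | hq
    · have hq2 : q = 2 := by have := h.two_le; omega
      subst hq2
      have h4 : mm 2 = 13 := rfl
      rw [h4] at h3
      have hu3 : 3 ≤ Nat.card F := by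
        obtain ⟨l, hl⟩ := h2
        omega
      have h5 : 3 ^ 4 ≤ Nat.card F ^ (k + k) :=
        (Nat.pow_le_pow_left hu3 4).trans (Nat.pow_le_pow_right (by omega) hm)
      omega
    · refine ne_half h.pp hq (Nat.card F ^ k) ?_
      rw [h3, ← pow_mul, mul_two]
  · exact hN.minus_two h1 h2 h5 h3 h4 h6
  · exact hN.minus_three h1 h3
  · exact hN.minus_four h1 h3 h4 h5

end Cfsg.Agent.H72.F4I
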