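import Cfsg.Agent.H72.F4I.TT
import Cfsg.Agent.H72.F4I.Iso.Lin
import Cfsg.Agent.H72.AdjPSL
import Cfsg.Agent.H964.PrimeGraph

/-!
# `PSL_m(u)`, `m ≥ 3` : the isolated number and a second prime (helper72)
-/

set_option autoImplicit false

namespace Cfsg.Agent.H72.F4I

open Cfsg.Agent.H72 Cfsg.Agent.H72.F4I.Iso Cfsg.Agent.H72.AdjPSL Cfsg.Agent.H72.AdjOrth

theorem zmod_three_eq_two : ∀ x : ZMod 3, x ≠ 0 → x ≠ 1 → x = 2 := by decide

theorem zmod_three_sq : (2 : ZMod 3) ^ 2 = 1 := by decide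

theorem zmod_three_ne : (2 : ZMod 3) ≠ 1 := by decide

theorem wL_three (q : ℕ) : wL q 3 = 2 := by
  rw [wL]
  split_ifs with h
  · rfl
  · rw [not_or] at h
    have := Fact.mk Nat.prime_two
    have h1 : (q : ZMod 3) ≠ 0 := fun h1 => h.1 ((ZMod.natCast_eq_zero_iff q 3).1 h1)
    have h2 : (q : ZMod 3) ≠ 1 := fun h2 => h.2 (by
      rcases Nat.eq_zero_or_pos q with h0 | h0
      · subst h0
        simp
      · rw [← ZMod.natCast_eq_zero_iff, Nat.cast_sub h0]
        push_cast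
        rw [h2, sub_self])
    show orderOf (q : ZMod 3) = 2
    rw [zmod_three_eq_two _ h1 h2]
    exact orderOf_eq_prime zmod_three_sq zmod_three_ne

/-- arithmetic of the first case -/
theorem lin_one {n g u m y : ℕ} (hu : 2 ≤ u) (hm : 3 ≤ m) (hg : g ∣ u - 1) (hg0 : 0 < g)
    (h1 : n * g * (u - 1) = u ^ m - 1) (h2 : y * g = u ^ (m - 1) - 1) :
    ∃ s, 1 ≤ s ∧ s ∣ u - 1 ∧ n * (u - 1) = u * y + s := by
  obtain ⟨s, hs⟩ := hg
  have hs0 : s ≠ 0 := by
    rintro rfl
    omega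
  refine ⟨s, by omega, ⟨g, by rw [hs, mul_comm]⟩, ?_⟩
  have e1 : u ^ m = u * u ^ (m - 1) := by
    rw [← pow_succ', Nat.sub_add_cancel (by omega)]
  have hp : 1 ≤ u ^ (m - 1) := Nat.one_le_pow _ _ (by omega)
  obtain ⟨w, hw⟩ : ∃ w, u ^ (m - 1) = w + 1 := ⟨u ^ (m - 1) - 1, by omega⟩
  rw [e1, hw] at h1
  rw [hw, Nat.add_sub_cancel] at h2
  obtain ⟨v, rfl⟩ : ∃ v, u = v + 1 := ⟨u - 1, by omega⟩
  rw [Nat.add_sub_cancel] at h1 hs ⊢
  have e2 : (v + 1) * (w + 1) - 1 = (v + 1) * w + v := by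
    have : (v + 1) * (w + 1) = (v + 1) * w + v + 1 := by ring
    omega
  rw [e2, ← h2] at h1
  apply Nat.eq_of_mul_eq_mul_left hg0
  nth_rw 3 [hs] at h1
  linarith

/-- arithmetic of the second case -/
theorem lin_two {n u m y : ℕ} (hu : 2 ≤ u) (hm : 3 ≤ m)
    (h1 : n * (u - 1) = u ^ (m - 1) - 1) (h2 : y * (u - 1) ^ 2 = u ^ m - 1) :
    (u - 1) * y = u * n + 1 := by
  have e1 : u ^ m = u * u ^ (m - 1) := by
    rw [← pow_succ', Nat.sub_add_cancel (by omega)]
  have hp : 1 ≤ u ^ (m - 1) := Nat.one_le_pow _ _ (by omega)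
  obtain ⟨w, hw⟩ : ∃ w, u ^ (m - 1) = w + 1 := ⟨u ^ (m - 1) - 1, by omega⟩
  rw [e1, hw] at h2
  rw [hw, Nat.add_sub_cancel] at h1
  obtain ⟨v, rfl⟩ : ∃ v, u = v + 1 := ⟨u - 1, by omega⟩
  rw [Nat.add_sub_cancel] at h1 h2 ⊢
  have e2 : (v + 1) * (w + 1) - 1 = (v + 1) * w + v := by
    have : (v + 1) * (w + 1) = (v + 1) * w + v + 1 := by ring
    omega
  rw [e2, ← h1] at h2
  apply Nat.eq_of_mul_eq_mul_left (show 0 < v by omega)
  linarith

/-- **`PSL_m(u)`, `m ≥ 3`** -/
theorem psl_t {F : Type*} [Field F] [Fintype F] {m n N t u : ℕ} (hm : 3 ≤ m) (hu : Nat.card F = u)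
    (h : IsoN (Matrix.ProjectiveSpecialLinearGroup (Fin m) F) n)
    (ht : TT (Matrix.ProjectiveSpecialLinearGroup (Fin m) F) N t) (htn : ¬ t ∣ n) :
    (∃ y s, y ∣ N ∧ t ∣ y ∧ 1 ≤ s ∧ s ∣ u - 1 ∧ n * (u - 1) = u * y + s) ∨
      (∃ y, y ∣ N ∧ t ∣ y ∧ (u - 1) * y = u * n + 1) ∨
      (t ∣ u ∧ (n = u ^ 2 + u + 1 ∨ 3 * n = u ^ 2 + u + 1)) := by
  classical
  have hu2 : 2 ≤ u := by rw [← hu]; exact Finite.one_lt_card
  have huF : Fintype.card F = u := by rw [← hu, Nat.card_eq_fintype_card]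
  have hb := h.big
  have hrow := psl_row hm h
  rw [hu] at hrow
  have hg0 : 0 < Nat.gcd m (u - 1) := Nat.gcd_pos_of_pos_left _ (by omega)
  have hgu : Nat.gcd m (u - 1) ∣ u - 1 := Nat.gcd_dvd_right _ _
  rcases Nat.lt_or_ge m 4 with hm4 | hm4
  · obtain rfl : m = 3 := by omega
    rcases hrow with ⟨h1, x, hx⟩ | ⟨hd, h1, x, hx⟩
    · have hng : n * Nat.gcd 3 (u - 1) = u ^ 2 + u + 1 := by
        apply Nat.eq_of_mul_eq_mul_right (show 0 < u - 1 by omega)
        rw [h1]
        obtain ⟨v, rfl⟩ : ∃ v, u = v + 1 := ⟨u - 1, by omega⟩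
        rw [Nat.add_sub_cancel]
        have : (v + 1) ^ 3 = ((v + 1) ^ 2 + (v + 1) + 1) * v + 1 := by ring
        omega
      have key : t ∣ u - 1 ∨ t ∣ u ^ 2 - 1 → (∃ y s, y ∣ N ∧ t ∣ y ∧ 1 ≤ s ∧ s ∣ u - 1 ∧ n * (u - 1) = u * y + s) := by
        intro h3
        have h4 : t ∣ u ^ 2 - 1 := by
          rcases h3 with h3 | h3
          · refine h3.trans ?_
            have := Nat.sub_dvd_pow_sub_pow u 1 2
            rwa [one_pow] at this
          · exact h3
        have h5 : t ∣ orderOf x := by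
          have h6 : t ∣ orderOf x * Nat.gcd 3 (u - 1) := by
            rw [hx]
            exact h4
          rcases (Nat.Prime.dvd_mul ht.prime).1 h6 with h7 | h7
          · exact h7
          · exfalso
            have h8 := Nat.le_of_dvd (by norm_num) (h7.trans (Nat.gcd_dvd_left _ _))
            have := ht.five
            omega
        obtain ⟨s, hs1, hs2, hs3⟩ := lin_one hu2 le_rfl hgu hg0 h1 hx
        exact ⟨_, s, ht.ord x h5, h5, hs1, hs2, hs3⟩
      obtain ⟨p, hp⟩ := CharP.exists F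
      have hpf : Fact p.Prime := ⟨CharP.char_is_prime F p⟩
      have htp := Fact.mk ht.prime
      have hfin : Finite (Matrix.ProjectiveSpecialLinearGroup (Fin 3) F) := inferInstance
      obtain ⟨z, hz⟩ := exists_prime_orderOf_dvd_card' t ht.dvd
      have h2 := (H964.PrimeGraph.mem_spec3 (F := F) p t).1 ⟨z, hz⟩
      rw [huF] at h2
      have hdiv : ∀ {a : ℕ}, t ∣ a / Nat.gcd 3 (u - 1) → Nat.gcd 3 (u - 1) ∣ a → t ∣ a := fun {a} h3 h4 =>
        h3.trans (Nat.div_dvd_of_dvd h4)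
      rcases h2 with h2 | h2 | h2 | h2 | ⟨-, h2⟩
      · exfalso
        rw [← hng, Nat.mul_div_cancel _ hg0] at h2
        exact htn h2
      · left
        refine key (Or.inr (hdiv h2 (hgu.trans ?_)))
        have := Nat.sub_dvd_pow_sub_pow u 1 2
        rwa [one_pow] at this
      · exact Or.inl (key (Or.inl h2))
      · have h3 := hdiv h2 (hgu.trans (Dvd.intro_left _ rfl))
        rcases (Nat.Prime.dvd_mul ht.prime).1 h3 with h4 | h4
        · right; right
          have htu : t ∣ u := by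
            obtain ⟨f, -, hf⟩ := FiniteField.card F p
            rw [huF] at hf
            rw [hf]
            exact h4.trans (dvd_pow_self p f.ne_zero)
          refine ⟨htu, ?_⟩
          rcases (Nat.dvd_prime Nat.prime_three).1 (Nat.gcd_dvd_left 3 (u - 1)) with h5 | h5
          · left
            rw [← hng, h5, mul_one]
          · right
            rw [← hng, h5, mul_comm]
        · exact Or.inl (key (Or.inl h4))
      · exfalso
        have h3 : t ∣ 2 ^ 2 := h2
        have := (Nat.prime_dvd_prime_iff_eq ht.prime Nat.prime_two).1 (ht.prime.dvd_of_dvd_pow h3)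
        exact ht.ne_two this
    · exfalso
      have h3 : n = u + 1 := by
        apply Nat.eq_of_mul_eq_mul_right (show 0 < u - 1 by omega)
        rw [h1]
        obtain ⟨v, rfl⟩ : ∃ v, u = v + 1 := ⟨u - 1, by omega⟩
        rw [Nat.add_sub_cancel]
        have : (v + 1) ^ (3 - 1) = (v + 1 + 1) * v + 1 := by
          rw [show 3 - 1 = 2 from rfl]
          ring
        omega
      have h4 := Nat.le_of_dvd (by norm_num) hd
      omega
  · -- `m ≥ 4`
    have hw : m < wL u t + 2 := by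
      by_contra hcon
      refine ht.not_three (adj_of_wL (F := F) ht.prime Nat.prime_three ht.ne_three ?_)
      rw [huF, wL_three]
      omega
    have hnot : ¬ (t ∣ u ∨ t ∣ u - 1) := by
      intro h3
      rw [wL, if_pos h3] at hw
      omega
    have hwe : wL u t = ee u t := by rw [wL, if_neg hnot]
    rw [not_or] at hnot
    rw [hwe] at hw
    have hle : ee u t ≤ m := by
      have := ee_le (F := F) ht.prime (by rw [huF]; exact hnot.1) ht.dvd
      rwa [huF] at this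
    have hdvd : t ∣ u ^ ee u t - 1 := dvd_pow_ee (by omega)
    have hg : ¬ t ∣ Nat.gcd m (u - 1) := fun h3 => hnot.2 (h3.trans hgu)
    have hcase : ee u t = m ∨ ee u t = m - 1 := by omega
    rcases hrow with ⟨h1, x, hx⟩ | ⟨hd, h1, x, hx⟩
    · left
      rcases hcase with h3 | h3
      · exfalso
        rw [h3, ← h1] at hdvd
        exact ht.not_dvd (ht.not_dvd htn hg) hnot.2 hdvd
      · rw [h3, ← hx] at hdvd
        have h5 : t ∣ orderOf x := ((Nat.Prime.dvd_mul ht.prime).1 hdvd).resolve_right hg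
        obtain ⟨s, hs1, hs2, hs3⟩ := lin_one hu2 hm hgu hg0 h1 hx
        exact ⟨_, s, ht.ord x h5, h5, hs1, hs2, hs3⟩
    · right; left
      rcases hcase with h3 | h3
      · rw [h3, ← hx] at hdvd
        have h5 : t ∣ orderOf x := ((Nat.Prime.dvd_mul ht.prime).1 hdvd).resolve_right fun h6 =>
          hnot.2 (ht.prime.dvd_of_dvd_pow h6)
        exact ⟨_, ht.ord x h5, h5, lin_two hu2 hm h1 hx⟩
      · exfalso
        rw [h3, ← h1] at hdvd
        exact ht.not_dvd htn hnot.2 hdvd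

end Cfsg.Agent.H72.F4I
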