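import Cfsg.Agent.H72.F4I.Num
import Cfsg.Agent.H72.F4I.Orth

/-!
# Identification of `F₄(q)`: the numbers of the classical rows (helper72)

`Q = q²`, `n = Q² - Q + 1`, `t` a prime divisor (at least 17) of `Q² + 1`.
-/

set_option autoImplicit false

namespace Cfsg.Agent.H72.F4I

/-- the numbers -/
structure NN (Q n t : ℕ) : Prop where
  four : 4 ≤ Q
  eq : n + Q = Q ^ 2 + 1
  prime : t.Prime
  big : 17 ≤ t
  dvd : t ∣ Q ^ 2 + 1

namespace NN

variable {Q n t y u : ℕ} (h : NN Q n t)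

include h

theorem n_big : 13 ≤ n := by
  have h1 := h.four
  have h2 := h.eq
  nlinarith

theorem cases (hy : y ∣ Q ^ 2 + 1) (hty : t ∣ y) : y = n + Q ∨ (2 * y ≤ n + Q ∧ 5 ≤ Q) := by
  have h1 := h.four
  have h2 := h.eq
  obtain ⟨c, hc⟩ := hy
  rcases Nat.lt_or_ge c 2 with h3 | h3
  · left
    have hc1 : c = 1 := by
      rcases Nat.eq_zero_or_pos c with h4 | h4
      · rw [h4] at hc
        omega
      · omega
    rw [hc1, mul_one] at hc
    omega
  · right
    have h4 : y * 2 ≤ y * c := Nat.mul_le_mul_left y h3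
    refine ⟨by omega, ?_⟩
    by_contra h5
    have h6 : Q = 4 := by omega
    have h7 : 17 ≤ y := h.big.trans (Nat.le_of_dvd (by
      rcases Nat.eq_zero_or_pos y with h8 | h8
      · rw [h8, zero_mul] at hc
        omega
      · exact h8) hty)
    rw [h6] at hc
    omega

theorem sq_zmod : ((Q : ℕ) : ZMod t) ^ 2 = -1 := by
  have h1 := (ZMod.natCast_eq_zero_iff (Q ^ 2 + 1) t).2 h.dvd
  push_cast at h1
  exact eq_neg_of_add_eq_zero_left h1

theorem n_zmod : ((n : ℕ) : ZMod t) = -(Q : ZMod t) := by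
  have h1 : ((n + Q : ℕ) : ZMod t) = ((Q ^ 2 + 1 : ℕ) : ZMod t) := by rw [h.eq]
  push_cast at h1
  have h2 := h.sq_zmod
  linear_combination h1 + h2

theorem num_ne {a : ℕ} (ha : 0 < a) (h17 : a < 17) : ((a : ℕ) : ZMod t) ≠ 0 := fun h0 => by
  have h1 := Nat.le_of_dvd ha ((ZMod.natCast_eq_zero_iff a t).1 h0)
  have := h.big
  omega

theorem not_Q : ¬ t ∣ Q := fun h1 => by
  have h2 : t ∣ 1 := (Nat.dvd_add_right (dvd_pow h1 two_ne_zero)).1 h.dvd
  have := Nat.le_of_dvd one_pos h2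
  have := h.big
  omega

theorem not_n : ¬ t ∣ n := fun h1 => by
  have h2 := (ZMod.natCast_eq_zero_iff n t).2 h1
  rw [h.n_zmod, neg_eq_zero] at h2
  exact h.not_Q ((ZMod.natCast_eq_zero_iff Q t).1 h2)

/-- `Q ≢ ±1` -/
theorem ne_one {e : ZMod t} (he : e ^ 2 = 1) : ((Q : ℕ) : ZMod t) ≠ e := fun h1 => by
  have h2 := h.sq_zmod
  rw [h1, he] at h2
  apply h.num_ne (a := 2) (by norm_num) (by norm_num)
  push_cast
  linear_combination h2

theorem near (hy : y ∣ Q ^ 2 + 1) (hty : t ∣ y) (h1 : y ≤ n + 3) (h2 : n ≤ y + 2) : False := by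
  have h3 := h.four
  have h4 := h.eq
  rcases h.cases hy hty with h5 | ⟨h5, h6⟩
  · omega
  · nlinarith

theorem lin_one {s : ℕ} (hy : y ∣ Q ^ 2 + 1) (hty : t ∣ y) (hu : 2 ≤ u) (hs : 1 ≤ s) (hsu : s ∣ u - 1)
    (h1 : n * (u - 1) = u * y + s) : False := by
  have h3 := h.four
  have h4 := h.eq
  have hsle := Nat.le_of_dvd (by omega) hsu
  obtain ⟨v, rfl⟩ : ∃ v, u = v + 2 := ⟨u - 2, by omega⟩
  rw [show v + 2 - 1 = v + 1 by omega] at h1 hsle
  rcases h.cases hy hty with h5 | ⟨h5, h6⟩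
  · rw [h5] at h1
    nlinarith
  · rcases Nat.eq_zero_or_pos v with h7 | h7
    · subst h7
      have hs1 : s = 1 := by omega
      subst hs1
      obtain ⟨c, hc⟩ := hy
      have h8 : n = 2 * y + 1 := by omega
      rcases Nat.lt_or_ge c 3 with h9 | h9
      · interval_cases c
        · omega
        · omega
        · omega
      · have : y * 3 ≤ y * c := Nat.mul_le_mul_left y h9
        nlinarith
    · have h8 : n * v ≤ (v + 2) * Q + 2 * (v + 1) := by nlinarith
      have h9 : (v + 2) * Q + 2 * (v + 1) ≤ v * (3 * Q + 4) := by nlinarith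
      have h10 : v * n ≤ v * (3 * Q + 4) := by nlinarith
      have h11 := Nat.le_of_mul_le_mul_left h10 h7
      nlinarith

theorem lin_two (hy : y ∣ Q ^ 2 + 1) (hty : t ∣ y) (h1 : (u - 1) * y = u * n + 1) : False := by
  have h3 := h.four
  have h4 := h.eq
  have hb := h.n_big
  obtain ⟨v, rfl⟩ : ∃ v, u = v + 1 := ⟨u - 1, by
    rcases Nat.eq_zero_or_pos u with h5 | h5
    · subst h5
      omega
    · omega⟩
  rw [Nat.add_sub_cancel] at h1
  have hyn : n < y := by
    by_contra hcon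
    have : v * y ≤ v * n := Nat.mul_le_mul_left v (by omega)
    nlinarith
  rcases h.cases hy hty with h5 | ⟨h5, h6⟩
  · rw [h5] at h1
    have h6 : Q * v = n + 1 := by nlinarith
    have h7 : Q ∣ 2 := by
      have h8 : Q * v + Q = Q * Q + 2 := by nlinarith
      have h9 : Q ∣ Q * Q + 2 := ⟨v + 1, by rw [← h8]; ring⟩
      exact (Nat.dvd_add_right (Dvd.intro _ rfl)).1 h9
    have := Nat.le_of_dvd (by norm_num) h7
    omega
  · nlinarith

theorem uni_one {m g s : ℕ} (hy : y ∣ Q ^ 2 + 1) (hty : t ∣ y) (hm : 3 ≤ m) (hgm : g ∣ m) (hgs : g * s = u + 1)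
    (h1 : n * g * (u + 1) = u ^ m + 1) (hmo : Odd m) (h2 : u * y + s = n * (u + 1)) : False := by
  have h3 := h.four
  have h4 := h.eq
  have hb := h.n_big
  have hs0 : s ≠ 0 := by
    rintro rfl
    omega
  have hg0 : g ≠ 0 := by
    rintro rfl
    rw [zero_mul] at hgs
    omega
  have hsle : s ≤ u + 1 := by rw [← hgs]; exact Nat.le_mul_of_pos_left _ (by omega)
  have hyn : n ≤ y := by
    by_contra hcon
    obtain ⟨k, rfl⟩ : ∃ k, n = y + 1 + k := ⟨n - (y + 1), by omega⟩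
    nlinarith
  rcases h.cases hy hty with h5 | ⟨h5, h6⟩
  · rw [h5] at h2
    have h6 : u * Q + s = n := by nlinarith
    have h7 : u * Q + s + Q = Q * Q + 1 := by nlinarith
    have huQ : u < Q := by
      by_contra hcon
      have : Q * Q ≤ u * Q := Nat.mul_le_mul_right Q (by omega)
      omega
    obtain ⟨k, hk⟩ : ∃ k, Q = u + 1 + k := ⟨Q - (u + 1), by omega⟩
    have h8 : s = Q * k + 1 := by
      rw [hk] at h7 ⊢
      nlinarith
    have hk0 : k = 0 := by
      by_contra hk0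
      have : Q * 1 ≤ Q * k := Nat.mul_le_mul_left Q (by omega)
      omega
    subst hk0
    have hs1 : s = 1 := by omega
    rw [hs1, mul_one] at hgs
    have hgQ : g = Q := by omega
    have hmQ := Nat.le_of_dvd (by omega) hgm
    have hm5 : 5 ≤ m := by
      obtain ⟨l, hl⟩ := hmo
      omega
    have h9 : u ^ 5 ≤ u ^ m := Nat.pow_le_pow_right (by omega) hm5
    rw [hgQ, show u + 1 = Q by omega] at h1
    obtain ⟨b, rfl⟩ : ∃ b, u = b + 3 := ⟨u - 3, by omega⟩
    have hQb : Q = b + 4 := by omega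
    subst hQb
    have hn : n = b ^ 2 + 7 * b + 13 := by nlinarith
    rw [hn] at h1
    have h10 : (b ^ 2 + 7 * b + 13) * (b + 4) * (b + 4) < (b + 3) ^ 5 + 1 := by
      have e : (b + 3) ^ 5 + 1 = (b ^ 2 + 7 * b + 13) * (b + 4) * (b + 4) +
        (b ^ 5 + 14 * b ^ 4 + 75 * b ^ 3 + 185 * b ^ 2 + 189 * b + 36) := by ring
      rw [e]
      omega
    omega
  · nlinarith

theorem uni_one' {g s : ℕ} (hy : y ∣ Q ^ 2 + 1) (hty : t ∣ y) (hgs : g * s = u + 1)
    (h2 : u * y = n * (u + 1) + s) : False := by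
  have h3 := h.four
  have h4 := h.eq
  have hb := h.n_big
  have hg0 : g ≠ 0 := by
    rintro rfl
    rw [zero_mul] at hgs
    omega
  have hyn : n < y := by
    by_contra hcon
    have : u * y ≤ u * n := Nat.mul_le_mul_left u (by omega)
    nlinarith
  rcases h.cases hy hty with h5 | ⟨h5, h6⟩
  · rw [h5] at h2
    have h7 : u * Q + Q = Q * Q + (s + 1) := by nlinarith
    have h8 : Q ∣ s + 1 := by
      have h9 : Q ∣ Q * Q + (s + 1) := ⟨u + 1, by rw [← h7]; ring⟩
      exact (Nat.dvd_add_right (Dvd.intro _ rfl)).1 h9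
    obtain ⟨k, hk⟩ := h8
    have hk1 : 1 ≤ k := by
      rcases Nat.eq_zero_or_pos k with h9 | h9
      · subst h9
        omega
      · exact h9
    have hu : u + 1 = Q + k := by
      have h9 : Q * (u + 1) = Q * (Q + k) := by
        rw [hk] at h7
        linarith
      exact Nat.eq_of_mul_eq_mul_left (by omega) h9
    have hdvd : s ∣ u + 1 := ⟨g, by rw [← hgs, mul_comm]⟩
    rw [hu] at hdvd
    rcases Nat.eq_or_lt_of_le hk1 with h9 | h9
    · subst h9
      have h10 : s = Q - 1 := by omega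
      have h11 : s ∣ 2 := by
        have h12 : s ∣ s + 2 := by
          rwa [show s + 2 = Q + 1 by omega]
        exact (Nat.dvd_add_right dvd_rfl).1 h12
      have := Nat.le_of_dvd (by norm_num) h11
      omega
    · have h10 := Nat.le_of_dvd (by omega) hdvd
      nlinarith
  · nlinarith

theorem uni_two (hy : y ∣ Q ^ 2 + 1) (hty : t ∣ y) (hu : 2 ≤ u)
    (h2 : y * (u + 1) + 1 = u * n ∨ y * (u + 1) = u * n + 1) : False := by
  have h3 := h.four
  have h4 := h.eq
  have hb := h.n_big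
  rcases h.cases hy hty with h5 | ⟨h5, h6⟩
  · rw [h5] at h2
    rcases h2 with h2 | h2 <;> nlinarith
  · obtain ⟨v, rfl⟩ : ∃ v, u = v + 2 := ⟨u - 2, by omega⟩
    have h7 : n * (v + 1) ≤ (v + 3) * Q + 2 := by
      rcases h2 with h2 | h2 <;> nlinarith
    rcases Nat.eq_zero_or_pos v with h8 | h8
    · subst h8
      nlinarith
    · have h9 : (v + 1) * n ≤ (v + 1) * (2 * Q + 1) := by nlinarith
      have h10 := Nat.le_of_mul_le_mul_left h9 (by omega)
      nlinarith

theorem plus_two (hy : y ∣ Q ^ 2 + 1) (hty : t ∣ y) (hu : 3 ≤ u) (ho : Odd u)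
    (h2 : 4 * (u * y) = (u + 1) * (n * (u - 1) + u + 1)) : False := by
  have h3 := h.four
  have h4 := h.eq
  have hb := h.n_big
  obtain ⟨v, rfl⟩ : ∃ v, u = v + 3 := ⟨u - 3, by omega⟩
  rw [show v + 3 - 1 = v + 2 by omega] at h2
  have hyn : y ≤ n + Q := by
    rcases h.cases hy hty with h5 | ⟨h5, h6⟩ <;> omega
  rcases Nat.eq_zero_or_pos v with h8 | h8
  · subst h8
    have h9 : 3 * y = 2 * n + 4 := by nlinarith
    rcases h.cases hy hty with h5 | ⟨h5, h6⟩
    · omega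
    · nlinarith
  · have hv2 : 2 ≤ v := by
      obtain ⟨k, hk⟩ := ho
      omega
    obtain ⟨w, rfl⟩ : ∃ w, v = w + 2 := ⟨v - 2, by omega⟩
    -- `4 (w+5) y ≤ 4 (w+5) (n+Q)`
    have h9 : (w + 2 + 3 + 1) * (n * (w + 2 + 2) + (w + 2 + 3) + 1) ≤ 4 * ((w + 2 + 3) * (n + Q)) := by
      rw [← h2]
      exact Nat.mul_le_mul_left 4 (Nat.mul_le_mul_left _ hyn)
    have h10 : (w + 5) * (4 * n + 30) ≤ (w + 5) * (20 * Q) := by
      nlinarith [Nat.zero_le (n * w ^ 2), Nat.zero_le (n * w)]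
    have h11 := Nat.le_of_mul_le_mul_left h10 (by omega)
    nlinarith

theorem minus_two {m : ℕ} (hy : y ∣ Q ^ 2 + 1) (hty : t ∣ y) (hm : 5 ≤ m) (hu : 3 ≤ u)
    (h1 : n * (u + 1) = u ^ m + 1) (h2 : 2 * (u * y) + 1 = n * (u + 1) + u) : False := by
  have h3 := h.four
  have h4 := h.eq
  have hb := h.n_big
  rcases h.cases hy hty with h5 | ⟨h5, h6⟩
  · rw [h5] at h2
    nlinarith
  · have h7 : n + u ≤ u * Q + 1 := by nlinarith
    have hQu : Q ≤ u := by
      by_contra hcon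
      obtain ⟨k, hk⟩ : ∃ k, Q = u + 1 + k := ⟨Q - (u + 1), by omega⟩
      rw [hk] at h7 h4
      nlinarith
    have h8 : u ^ 5 ≤ u ^ m := Nat.pow_le_pow_right (by omega) hm
    have h9 : n + u ≤ u ^ 2 + 1 := by nlinarith
    have h10 : n * (u + 1) ≤ u ^ 3 + 1 := by nlinarith
    have h11 : u ^ 3 < u ^ 5 := Nat.pow_lt_pow_right (by omega) (by norm_num)
    omega

theorem minus_three (hy : y ∣ Q ^ 2 + 1) (h1 : y + 1 = 6 * n ∨ y + 1 = 2 * n ∨ 2 * y + 1 = 3 * n) : False := by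
  have h3 := h.four
  have h4 := h.eq
  have hb := h.n_big
  have h5 := Nat.le_of_dvd (by omega) hy
  have h6 : 2 * Q + 2 ≤ n := by nlinarith
  rcases h1 with h1 | h1 | h1 <;> omega

theorem minus_four {z : ℕ} (hy : y ∣ Q ^ 2 + 1) (hz : 27 ≤ z) (h1 : 8 * n = (3 * z + 1) * (z + 1))
    (h2 : 2 * y + 1 = z) : False := by
  have h3 := h.four
  have h4 := h.eq
  subst h2
  obtain ⟨R, rfl⟩ : ∃ R, Q = R + 1 := ⟨Q - 1, by omega⟩
  have h5 : 4 * ((R + 1) * R) = (6 * y + 10) * y := by nlinarith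
  have hco : Nat.Coprime y (R + 1) := by
    refine Nat.coprime_of_dvd fun p hp hpy hpQ => ?_
    have h6 : p ∣ 1 := (Nat.dvd_add_right (dvd_pow hpQ two_ne_zero)).1 (hpy.trans hy)
    exact hp.one_lt.ne' (Nat.dvd_one.1 h6)
  have h6 : y ∣ 4 * R := by
    have h7 : y ∣ (R + 1) * (4 * R) := ⟨6 * y + 10, by linarith⟩
    exact hco.dvd_of_dvd_mul_left h7
  have h7 : y ∣ 8 := by
    have h8 : y ∣ 4 * ((R + 1) ^ 2 + 1) := hy.mul_left 4
    have h9 : 4 * ((R + 1) ^ 2 + 1) = 4 * R * (R + 2) + 8 := by ring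
    rw [h9] at h8
    exact (Nat.dvd_add_right (h6.mul_right _)).1 h8
  have := Nat.le_of_dvd (by norm_num) h7
  omega

theorem psl_two (htu : t ∣ u) (h1 : 2 * n + 1 = u ∨ 2 * n = u + 1) : False := by
  have hu := (ZMod.natCast_eq_zero_iff u t).2 htu
  have hn := h.n_zmod
  have hQ := h.sq_zmod
  apply h.num_ne (a := 5) (by norm_num) (by norm_num)
  rcases h1 with h1 | h1
  · have h2 : ((2 * n + 1 : ℕ) : ZMod t) = (u : ZMod t) := by rw [h1]
    push_cast at h2 ⊢
    rw [hn, hu] at h2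
    linear_combination 4 * hQ - (-1 - 2 * (Q : ZMod t)) * h2 
  · have h2 : ((2 * n : ℕ) : ZMod t) = ((u + 1 : ℕ) : ZMod t) := by rw [h1]
    push_cast at h2 ⊢
    rw [hn, hu] at h2
    linear_combination 4 * hQ - (1 - 2 * (Q : ZMod t)) * h2 

theorem psl_three {f : ℕ} (hy : y ∣ Q ^ 2 + 1) (hty : t ∣ y) (hf : 1 ≤ f) (hu : u = n ^ f)
    (h1 : 2 * y + 1 = u ∨ 2 * y = u + 1) : False := by
  have h3 := h.four
  have h4 := h.eq
  have hb := h.n_big
  rcases Nat.eq_or_lt_of_le hf with h5 | h5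
  · subst h5
    rw [pow_one] at hu
    subst hu
    have hyz := (ZMod.natCast_eq_zero_iff y t).2 hty
    have hn := h.n_zmod
    rcases h1 with h1 | h1
    · have h2 : ((2 * y + 1 : ℕ) : ZMod t) = (u : ZMod t) := by rw [h1]
      push_cast at h2
      rw [hn, hyz] at h2
      exact h.ne_one (e := -1) (by ring) (by linear_combination h2)
    · have h2 : ((2 * y : ℕ) : ZMod t) = ((u + 1 : ℕ) : ZMod t) := by rw [h1]
      push_cast at h2
      rw [hn, hyz] at h2
      exact h.ne_one (e := 1) (by ring) (by linear_combination h2)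
  · have h6 : n ^ 2 ≤ n ^ f := Nat.pow_le_pow_right (by omega) h5
    have h7 := Nat.le_of_dvd (by omega) hy
    rw [← hu] at h6
    rcases h1 with h1 | h1 <;> nlinarith

end NN

end Cfsg.Agent.H72.F4I
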