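import Cfsg.Agent.H72.F4I.TT
import Cfsg.Agent.H72.F4I.Lin
import Cfsg.Agent.H72.F4I.Iso.Uni
import Cfsg.Agent.H72.AdjPSUW

/-!
# `PSU_m(u)`, `m ≥ 3` : the isolated number and a second prime (helper72)
-/

set_option autoImplicit false

namespace Cfsg.Agent.H72.F4I

open Cfsg.Agent.H72 Cfsg.Agent.H72.F4I.Iso Cfsg.Agent.H72.AdjPSU
open Cfsg.Agent.H948.UProd (ph)
open Cfsg.Agent.H948.UMain (ph_even ph_odd)

theorem wU_three (q : ℕ) : wU q 3 = 2 := by
  rw [wU]
  split_ifs with h
  · rfl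
  · rw [not_or] at h
    have := Fact.mk Nat.prime_two
    have h1 : (-(q : ZMod 3)) ≠ 0 := fun h1 => h.1 ((ZMod.natCast_eq_zero_iff q 3).1 (neg_eq_zero.1 h1))
    have h2 : (-(q : ZMod 3)) ≠ 1 := fun h2 => h.2 (by
      rw [← ZMod.natCast_eq_zero_iff]
      push_cast
      rw [← h2]
      ring)
    show orderOf (-(q : ZMod 3)) = 2
    rw [zmod_three_eq_two _ h1 h2]
    exact orderOf_eq_prime zmod_three_sq zmod_three_ne

theorem dvd_ph {u t : ℕ} (hu : 1 ≤ u) (h : 1 ≤ nu u t) : t ∣ ph u (nu u t - 1) := by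
  have h1 := nu_dvd hu t
  split_ifs at h1 with h2
  · rw [ph_odd (by
      rw [Nat.not_even_iff_odd]
      obtain ⟨k, hk⟩ := h2
      exact ⟨k - 1, by omega⟩), Nat.sub_add_cancel h]
    exact h1
  · rw [ph_even (by
      rw [Nat.not_even_iff_odd] at h2
      obtain ⟨k, hk⟩ := h2
      exact ⟨k, by omega⟩), Nat.sub_add_cancel h]
    exact h1

/-- **`PSU_m(u)`, `m ≥ 3`** -/
theorem psu_t {F : Type*} [Field F] [Fintype F] {m n N t u : ℕ} (hF : Fintype.card F = u ^ 2) (hm : 3 ≤ m)
    (hne : ¬ (m = 3 ∧ u = 2)) (h : IsoN (Cfsg.PSU m F u) n) (ht : TT (Cfsg.PSU m F u) N t) (htn : ¬ t ∣ n)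
    (h12 : n % 12 = 1) :
    (∃ y g s, y ∣ N ∧ t ∣ y ∧ g ∣ m ∧ g * s = u + 1 ∧
      ((Odd m ∧ n * g * (u + 1) = u ^ m + 1 ∧ u * y + s = n * (u + 1)) ∨
        (Even m ∧ n * g * (u + 1) + 1 = u ^ m ∧ u * y = n * (u + 1) + s))) ∨
      (∃ y, y ∣ N ∧ t ∣ y ∧ 4 ≤ m ∧ (y * (u + 1) + 1 = u * n ∨ y * (u + 1) = u * n + 1)) ∨
      (t ∣ u ∧ (n + u = u ^ 2 + 1 ∨ 3 * n + u = u ^ 2 + 1)) := by
  classical
  have hu2 : 2 ≤ u := Cfsg.Agent.LieClassical.HermBasic.two_le hF
  have hb := h.big
  have hg0 : 0 < Nat.gcd m (u + 1) := Nat.gcd_pos_of_pos_left _ (by omega)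
  have hgm : Nat.gcd m (u + 1) ∣ m := Nat.gcd_dvd_left _ _
  have hgu : Nat.gcd m (u + 1) ∣ u + 1 := Nat.gcd_dvd_right _ _
  have hp1 : 1 ≤ u ^ (m - 1) := Nat.one_le_pow _ _ (by omega)
  have e1 : u ^ m = u * u ^ (m - 1) := by
    rw [← pow_succ', Nat.sub_add_cancel (by omega)]
  -- the first case
  have first : ∀ y : ℕ, y ∣ N → t ∣ y → n * Nat.gcd m (u + 1) * (u + 1) = ph u (m - 1) →
      y * Nat.gcd m (u + 1) = ph u (m - 2) →
      (∃ y g s, y ∣ N ∧ t ∣ y ∧ g ∣ m ∧ g * s = u + 1 ∧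
      ((Odd m ∧ n * g * (u + 1) = u ^ m + 1 ∧ u * y + s = n * (u + 1)) ∨
        (Even m ∧ n * g * (u + 1) + 1 = u ^ m ∧ u * y = n * (u + 1) + s))) := by
    intro y hyN hty h1 h2
    obtain ⟨s, hs⟩ := hgu
    refine ⟨y, _, s, hyN, hty, hgm, hs.symm, ?_⟩
    generalize Nat.gcd m (u + 1) = g at *
    rcases Nat.even_or_odd m with hme | hmo
    · right
      rw [ph_odd (by
        rw [Nat.not_even_iff_odd]
        obtain ⟨k, hk⟩ := hme
        exact ⟨k - 1, by omega⟩), Nat.sub_add_cancel (by omega)] at h1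
      rw [ph_even (by
        obtain ⟨k, hk⟩ := hme
        exact ⟨k - 1, by omega⟩), show m - 2 + 1 = m - 1 by omega] at h2
      have h3 : n * g * (u + 1) + 1 = u ^ m := by
        have : 1 ≤ u ^ m := Nat.one_le_pow _ _ (by omega)
        omega
      refine ⟨hme, h3, ?_⟩
      apply Nat.eq_of_mul_eq_mul_left hg0
      have h4 : g * (u * y) = u * (u ^ (m - 1) + 1) := by rw [← h2]; ring
      rw [h4, mul_add, ← e1, ← h3, mul_one]
      have h5 : n * g * (u + 1) = g * (n * (u + 1)) := by ring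
      rw [h5, mul_add g, ← hs]
      ring
    · left
      rw [ph_even (by
        obtain ⟨k, hk⟩ := hmo
        exact ⟨k, by omega⟩), Nat.sub_add_cancel (by omega)] at h1
      rw [ph_odd (by
        rw [Nat.not_even_iff_odd]
        obtain ⟨k, hk⟩ := hmo
        exact ⟨k - 1, by omega⟩), show m - 2 + 1 = m - 1 by omega] at h2
      refine ⟨hmo, h1, ?_⟩
      apply Nat.eq_of_mul_eq_mul_left hg0
      obtain ⟨w, hw⟩ : ∃ w, u ^ (m - 1) = w + 1 := ⟨u ^ (m - 1) - 1, by omega⟩
      rw [e1, hw] at h1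
      rw [hw, Nat.add_sub_cancel] at h2
      have h4 : g * (u * y) = u * w := by rw [← h2]; ring
      rw [mul_add, h4, ← hs]
      have h5 : g * (n * (u + 1)) = n * g * (u + 1) := by ring
      rw [h5, h1]
      ring
  rcases Nat.lt_or_ge m 4 with hm4 | hm4
  · obtain rfl : m = 3 := by omega
    rcases psu_row hF hm hne h with ⟨h1, x, hx⟩ | ⟨h4, -⟩ | ⟨h4, -⟩ | ⟨h4, -⟩
    · have hng : n * Nat.gcd 3 (u + 1) + u = u ^ 2 + 1 := by
        have h2 : ph u (3 - 1) = u ^ 3 + 1 := ph_even (by decide)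
        rw [h2] at h1
        apply Nat.eq_of_mul_eq_mul_right (show 0 < u + 1 by omega)
        rw [add_mul, h1]
        ring
      have hx2 : ph u (3 - 2) = u ^ 2 - 1 := ph_odd (by decide)
      have htg : ¬ t ∣ Nat.gcd 3 (u + 1) := fun h7 => by
        have h8 := Nat.le_of_dvd (by norm_num) (h7.trans (Nat.gcd_dvd_left _ _))
        have := ht.five
        omega
      have key : t ∣ u ^ 2 - 1 → t ∣ orderOf x := fun h3 => by
        have h6 : t ∣ orderOf x * Nat.gcd 3 (u + 1) := by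
          rw [hx, hx2]
          exact h3
        exact ((Nat.Prime.dvd_mul ht.prime).1 h6).resolve_right htg
      have hd2 : u + 1 ∣ u ^ 2 - 1 := by
        have := Nat.sq_sub_sq u 1
        rw [one_pow] at this
        rw [this]
        exact Dvd.intro _ rfl
      have fin : t ∣ u ^ 2 - 1 → (∃ y g s, y ∣ N ∧ t ∣ y ∧ g ∣ 3 ∧ g * s = u + 1 ∧
          ((Odd 3 ∧ n * g * (u + 1) = u ^ 3 + 1 ∧ u * y + s = n * (u + 1)) ∨
            (Even 3 ∧ n * g * (u + 1) + 1 = u ^ 3 ∧ u * y = n * (u + 1) + s))) := fun h3 =>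
        first _ (ht.ord x (key h3)) (key h3) h1 hx
      rcases H948.UProd.prime_dvd_card_PSU hF (by norm_num) ht.prime ht.dvd with h2 | ⟨i, hi, h2⟩
      · right; right
        refine ⟨h2, ?_⟩
        rcases (Nat.dvd_prime Nat.prime_three).1 (Nat.gcd_dvd_left 3 (u + 1)) with h5 | h5
        · left
          rw [h5, mul_one] at hng
          exact hng
        · right
          rw [h5, mul_comm] at hng
          exact hng
      · left
        interval_cases i
        · rw [ph_even (by decide), zero_add, pow_one] at h2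
          exact fin (h2.trans hd2)
        · rw [ph_odd (by decide)] at h2
          exact fin h2
        · have h1' := h1
          rw [show 3 - 1 = 2 from rfl] at h1'
          rw [← h1'] at h2
          rcases (Nat.Prime.dvd_mul ht.prime).1 h2 with h3 | h3
          · exact absurd h3 (ht.not_dvd htn htg)
          · exact fin (h3.trans hd2)
    · omega
    · omega
    · omega
  · -- `m ≥ 4`
    have hw : m < wU u t + 2 := by
      by_contra hcon
      refine ht.not_three (adj_of_wU hF hm ht.prime Nat.prime_three ht.ne_three ?_)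
      rw [wU_three]
      omega
    have hnot : ¬ (t ∣ u ∨ t ∣ u + 1) := by
      intro h3
      rw [wU, if_pos h3] at hw
      omega
    have hwe : wU u t = nu u t := by rw [wU, if_neg hnot]
    rw [not_or] at hnot
    rw [hwe] at hw
    have hle : nu u t ≤ m := nu_le hF (by omega) ht.prime hnot.1 ht.dvd
    have hdvd : t ∣ ph u (nu u t - 1) := dvd_ph (by omega) (by omega)
    have hg : ¬ t ∣ Nat.gcd m (u + 1) := fun h3 => hnot.2 (h3.trans hgu)
    have hcase : nu u t = m ∨ nu u t = m - 1 := by omega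
    rcases psu_row hF hm hne h with ⟨h1, x, hx⟩ | ⟨-, -, h1, x, hx⟩ | ⟨-, -, h4⟩ | ⟨-, -, h4⟩
    · left
      rcases hcase with h3 | h3
      · exfalso
        rw [h3, ← h1] at hdvd
        exact ht.not_dvd (ht.not_dvd htn hg) hnot.2 hdvd
      · rw [h3, show m - 1 - 1 = m - 2 by omega, ← hx] at hdvd
        have h5 : t ∣ orderOf x := ((Nat.Prime.dvd_mul ht.prime).1 hdvd).resolve_right hg
        exact first _ (ht.ord x h5) h5 h1 hx
    · right; left
      rcases hcase with h3 | h3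
      · rw [h3, ← hx] at hdvd
        have h5 : t ∣ orderOf x := ((Nat.Prime.dvd_mul ht.prime).1 hdvd).resolve_right fun h6 =>
          hnot.2 (ht.prime.dvd_of_dvd_pow h6)
        refine ⟨_, ht.ord x h5, h5, hm4, ?_⟩
        rcases Nat.even_or_odd m with hme | hmo
        · left
          rw [ph_odd (by
            rw [Nat.not_even_iff_odd]
            obtain ⟨k, hk⟩ := hme
            exact ⟨k - 1, by omega⟩), Nat.sub_add_cancel (by omega)] at hx
          rw [ph_even (by
            obtain ⟨k, hk⟩ := hme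
            exact ⟨k - 1, by omega⟩), show m - 2 + 1 = m - 1 by omega] at h1
          apply Nat.eq_of_mul_eq_mul_left (show 0 < u + 1 by omega)
          obtain ⟨w, hw⟩ : ∃ w, u ^ (m - 1) = w + 1 := ⟨u ^ (m - 1) - 1, by omega⟩
          rw [e1, hw] at hx
          rw [hw] at h1
          have h6 : orderOf x * (u + 1) ^ 2 + 1 = u * (w + 1) := by
            have : 1 ≤ u * (w + 1) := Nat.mul_pos (by omega) (by omega)
            omega
          have h7 : u * (n * (u + 1)) = u * (w + 1 + 1) := by rw [h1]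
          nlinarith
        · right
          rw [ph_even (by
            obtain ⟨k, hk⟩ := hmo
            exact ⟨k, by omega⟩), Nat.sub_add_cancel (by omega)] at hx
          rw [ph_odd (by
            rw [Nat.not_even_iff_odd]
            obtain ⟨k, hk⟩ := hmo
            exact ⟨k - 1, by omega⟩), show m - 2 + 1 = m - 1 by omega] at h1
          apply Nat.eq_of_mul_eq_mul_left (show 0 < u + 1 by omega)
          obtain ⟨w, hw⟩ : ∃ w, u ^ (m - 1) = w + 1 := ⟨u ^ (m - 1) - 1, by omega⟩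
          rw [e1, hw] at hx
          rw [hw, Nat.add_sub_cancel] at h1
          have h7 : u * (n * (u + 1)) = u * w := by rw [h1]
          nlinarith
      · exfalso
        rw [h3, show m - 1 - 1 = m - 2 by omega, ← h1] at hdvd
        exact ht.not_dvd htn hnot.2 hdvd
    · omega
    · omega

end Cfsg.Agent.H72.F4I
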