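import Cfsg.Agent.H72.F4I.NumC
import Cfsg.Agent.H72.F4I.Small
import Cfsg.Agent.H72.F4I.Uni

/-!
# Identification of `F₄(q)`: the situation (helper72, statement S3479)

`FS q S` : `n = mm q = q⁴ - q² + 1` is an isolated element order of `S`; an odd prime of `q⁴ + 1` divides `|S|`, the
element orders which the odd primes of `q⁴ + 1` divide are divisors of `q⁴ + 1`; the primes of `|S|` divide
`q (q⁸ - 1) (q¹² - 1)`.
-/

set_option autoImplicit false
set_option linter.unusedSectionVars false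

namespace Cfsg.Agent.H72.F4I

open Cfsg.Agent.H72.F4I.Iso

/-- the situation -/
structure FS (q : ℕ) (S : Type*) [Group S] : Prop where
  pp : IsPrimePow q
  elt : ∃ x : S, orderOf x = mm q
  iso : ∀ (x : S) (s : ℕ), s.Prime → s ∣ mm q → s ∣ orderOf x → orderOf x ∣ mm q
  has8 : ∃ r : ℕ, r.Prime ∧ r ≠ 2 ∧ r ∣ q ^ 4 + 1 ∧ r ∣ Nat.card S
  iso8 : ∀ (x : S) (r : ℕ), r.Prime → r ≠ 2 → r ∣ q ^ 4 + 1 → r ∣ orderOf x → orderOf x ∣ q ^ 4 + 1
  pi : ∀ t : ℕ, t.Prime → t ∣ Nat.card S → t ∣ q ∨ t ∣ q ^ 8 - 1 ∨ t ∣ q ^ 12 - 1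

namespace FS

variable {q : ℕ} {S : Type*} [Group S]

theorem congr {T : Type*} [Group T] (h : FS q S) (e : S ≃* T) : FS q T := by
  have key : ∀ x : T, orderOf (e.symm x) = orderOf x := fun x =>
    orderOf_injective e.symm.toMonoidHom e.symm.injective x
  have hc : Nat.card T = Nat.card S := (Nat.card_congr e.toEquiv).symm
  refine ⟨h.pp, ?_, ?_, ?_, ?_, ?_⟩
  · obtain ⟨x, hx⟩ := h.elt
    exact ⟨e x, by rw [← key, MulEquiv.symm_apply_apply, hx]⟩
  · intro x s hs hsn hd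
    rw [← key] at hd ⊢
    exact h.iso _ s hs hsn hd
  · rw [hc]
    exact h.has8
  · intro x r hr hr2 hrd hd
    rw [← key] at hd ⊢
    exact h.iso8 _ r hr hr2 hrd hd
  · intro t ht hd
    rw [hc] at hd
    exact h.pi t ht hd

variable (h : FS q S)

include h

theorem two_le : 2 ≤ q := h.pp.two_le

theorem isoN : IsoN S (mm q) where
  elt := h.elt
  iso := fun x r hr hrn hrx => h.iso x r hr hrn hrx
  not_two_dvd := fun h2 => by
    have := mm_mod (q := q) (by have := h.two_le; omega)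
    omega
  not_three_dvd := fun h3 => by
    have := mm_mod (q := q) (by have := h.two_le; omega)
    omega
  big := mm_ge h.two_le

theorem exists_t : ∃ t : ℕ, TT S ((q ^ 2) ^ 2 + 1) t ∧ NN (q ^ 2) (mm q) t := by
  have hq := h.two_le
  have e : (q ^ 2) ^ 2 + 1 = q ^ 4 + 1 := by ring
  obtain ⟨t, ht, ht2, htd, htc⟩ := h.has8
  have h17 := prime_eight_ge ht ht2 htd
  refine ⟨t, ⟨ht, by omega, htc, ?_, ?_⟩, ⟨four_le_sq hq, ?_, ht, h17, ?_⟩⟩
  · intro x hx
    rw [e]
    exact h.iso8 x t ht ht2 htd hx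
  · rw [e]
    exact not_three_dvd
  · rw [e, mm_add_sq (by omega)]
  · rw [e]
    exact htd

theorem mm_dvd_card [Finite S] : mm q ∣ Nat.card S := h.isoN.dvd_card

theorem mod : mm q % 12 = 1 := mm_mod (by have := h.two_le; omega)

end FS

end Cfsg.Agent.H72.F4I
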