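import Cfsg.Agent.H72.F4I.Iso.Basic

/-!
# Primes with bounded centralizers (helper72, identification for S3479, S3480, S3481)

`TT S N t`: `t ≥ 5` is a prime divisor of `|S|` and every element order of `S` divisible by `t` divides `N`, `3 ∤ N`.
-/

set_option autoImplicit false

namespace Cfsg.Agent.H72.F4I

open Cfsg.Agent.H72.F4I.Iso

/-- every element order divisible by `t` divides `N` -/
structure TT (S : Type*) [Group S] (N t : ℕ) : Prop where
  prime : t.Prime
  five : 5 ≤ t
  dvd : t ∣ Nat.card S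
  ord : ∀ x : S, t ∣ orderOf x → orderOf x ∣ N
  three : ¬ 3 ∣ N

namespace TT

variable {S : Type*} [Group S] {N t : ℕ}

theorem congr {T : Type*} [Group T] (h : TT S N t) (e : S ≃* T) : TT T N t where
  prime := h.prime
  five := h.five
  dvd := by
    rw [← Nat.card_congr e.toEquiv]
    exact h.dvd
  ord x hx := by
    have h1 : orderOf (e.symm x) = orderOf x := orderOf_injective e.symm.toMonoidHom e.symm.injective x
    rw [← h1] at hx ⊢
    exact h.ord _ hx
  three := h.three

theorem ne_two (h : TT S N t) : t ≠ 2 := by have := h.five; omega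

theorem ne_three (h : TT S N t) : t ≠ 3 := by have := h.five; omega

theorem dvd_of (h : TT S N t) {a : ℕ} (ha : ∃ x : S, orderOf x = a) (hta : t ∣ a) : a ∣ N := by
  obtain ⟨x, rfl⟩ := ha
  exact h.ord x hta

theorem dvd_of' (h : TT S N t) {a : ℕ} (ha : ∃ x : S, a ∣ orderOf x) (hta : t ∣ a) : a ∣ N := by
  obtain ⟨x, hx⟩ := ha
  exact hx.trans (h.ord x (hta.trans hx))

theorem not_three (h : TT S N t) : ¬ ∃ x : S, orderOf x = t * 3 := fun hx =>
  h.three ((Dvd.intro_left _ rfl).trans (h.dvd_of hx (Dvd.intro _ rfl)))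

theorem not_three' (h : TT S N t) : ¬ ∃ x : S, orderOf x = 3 * t := by
  rw [mul_comm]
  exact h.not_three

theorem not_dvd {a b : ℕ} (h : TT S N t) (ha : ¬ t ∣ a) (hb : ¬ t ∣ b) : ¬ t ∣ a * b := fun h1 =>
  ((Nat.Prime.dvd_mul h.prime).1 h1).elim ha hb

end TT

end Cfsg.Agent.H72.F4I
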